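import Cfsg.Agent.H962.E7.Def
import Cfsg.Agent.H627.E7.Num
import Cfsg.Agent.H627.E7.Common
import Cfsg.Agent.H267.E7R.Tools
import Cfsg.Agent.H334.E7.Size

/-!
# `E₇(q)`, `q` odd: what is known of the simple section (helper13, S3435; after helper962, S3482)

* `s = true` : `q % 4 = 1`, the classes 14, 18 are not adjacent to 2; `s = false` : `q % 4 = 3`, the classes 7, 9;
* `IsT s i` : the class `i` is one of these two; `IsB s i` : one of the other two of `7, 9, 14, 18`;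
* `RowS s p k S` : what is known of the simple section.
-/

set_option autoImplicit false

namespace Cfsg.Agent.R2.Spec.X1.E7

open Cfsg.Agent.H436 Cfsg.Agent.H962.E7

universe u

/-- the classes not adjacent to 2 -/
def IsT (s : Bool) (i : ℕ) : Prop := if s then i = 14 ∨ i = 18 else i = 7 ∨ i = 9

/-- the other two classes -/
def IsB (s : Bool) (i : ℕ) : Prop := if s then i = 7 ∨ i = 9 else i = 14 ∨ i = 18

def t1 (s : Bool) : ℕ := if s then 14 else 7
def t2 (s : Bool) : ℕ := if s then 18 else 9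
def b1 (s : Bool) : ℕ := if s then 7 else 14
def b2 (s : Bool) : ℕ := if s then 9 else 18

theorem isT_t1 (s : Bool) : IsT s (t1 s) := by cases s <;> simp [IsT, t1]
theorem isT_t2 (s : Bool) : IsT s (t2 s) := by cases s <;> simp [IsT, t2]
theorem isB_b1 (s : Bool) : IsB s (b1 s) := by cases s <;> simp [IsB, b1]
theorem isB_b2 (s : Bool) : IsB s (b2 s) := by cases s <;> simp [IsB, b2]

theorem isT_iff {s : Bool} {i : ℕ} : IsT s i ↔ i = t1 s ∨ i = t2 s := by cases s <;> simp [IsT, t1, t2]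
theorem isB_iff {s : Bool} {i : ℕ} : IsB s i ↔ i = b1 s ∨ i = b2 s := by cases s <;> simp [IsB, b1, b2]

theorem IsT.c4 {s : Bool} {i : ℕ} (h : IsT s i) : i ∈ C4 := by
  rw [H627.E7.mem_C4]
  cases s <;> simp [IsT] at h <;> omega

theorem IsB.c4 {s : Bool} {i : ℕ} (h : IsB s i) : i ∈ C4 := by
  rw [H627.E7.mem_C4]
  cases s <;> simp [IsB] at h <;> omega

theorem IsT.c8 {s : Bool} {i : ℕ} (h : IsT s i) : i ∈ C8 := H627.E7.C4_sub h.c4
theorem IsB.c8 {s : Bool} {i : ℕ} (h : IsB s i) : i ∈ C8 := H627.E7.C4_sub h.c4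

theorem IsT.ne {s : Bool} {i j : ℕ} (h : IsT s i) (h' : IsB s j) : i ≠ j := by
  cases s <;> simp [IsB] at h' <;> simp [IsT] at h <;> omega

theorem t_ne (s : Bool) : t1 s ≠ t2 s := by cases s <;> simp [t1, t2]
theorem b_ne (s : Bool) : b1 s ≠ b2 s := by cases s <;> simp [b1, b2]

theorem c4_or (s : Bool) {i : ℕ} (h : i ∈ C4) : IsT s i ∨ IsB s i := by
  rw [H627.E7.mem_C4] at h
  cases s <;> simp [IsB, IsT] <;> omega

/-- the residue of `q` modulo 4 -/
def md (s : Bool) : ℕ := if s then 1 else 3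

/-- what is known of the simple section -/
structure RowS (s : Bool) (p k : ℕ) (S : Type u) [Group S] : Prop where
  hp : p.Prime
  hk : 1 ≤ k
  h2 : p ≠ 2
  hs : p ^ k % 4 = md s
  simple : IsSimpleGroup S
  nonab : ¬ IsMulCommutative S
  pi : ∀ r : ℕ, r.Prime → r ∣ Nat.card S → r = p ∨ ∃ i ∈ ({8, 10, 12, 14, 18} : Finset ℕ), r ∣ (p ^ k) ^ i - 1
  tor : Tor S (p ^ k)
  nad : Nad S (p ^ k)
  one : ∀ i ∈ C8, ∀ j ∈ C8, i ≠ j → Fl S (p ^ k) i ∨ Fl S (p ^ k) j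
  top : ∀ i, IsT s i → Fl S (p ^ k) i

/-! ### arithmetic -/

section num

variable {s : Bool} {q : ℕ}

theorem gcd_two (h : q % 4 = md s) : Nat.gcd 2 (q - 1) = 2 := by
  cases s <;> simp [md] at h <;> exact Nat.gcd_eq_left (by omega)

theorem odd_of (h : q % 4 = md s) : q % 2 = 1 := by
  cases s <;> simp [md] at h <;> omega

/-- the tori of the classes 7, 9, 14, 18 -/
theorem TT_odd {i : ℕ} (h : q % 4 = md s) (hi : IsT s i) : ¬ 2 ∣ TT q i := by
  cases s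
  · simp only [IsT, Bool.false_eq_true, if_false] at hi
    simp only [md, Bool.false_eq_true, if_false] at h
    have e : Nat.gcd 2 (q - 1) = 2 := Nat.gcd_eq_left (by omega)
    have hq1 : 1 ≤ q := by omega
    have h1 : (q : ZMod 4) = 3 := by
      have : (q : ZMod 4) = ((q % 4 : ℕ) : ZMod 4) := by rw [ZMod.natCast_mod]
      rw [this, h]; rfl
    have key : ∀ n : ℕ, ((n : ℕ) : ZMod 4) = 2 → ¬ 2 ∣ n / 2 := by
      intro n hn h
      have h2 : n % 4 = 2 := by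
        have h3 : ((n : ℕ) : ZMod 4) = ((2 : ℕ) : ZMod 4) := by rw [hn]; rfl
        have := (ZMod.natCast_eq_natCast_iff' _ _ _).1 h3
        omega
      omega
    rcases hi with rfl | rfl
    · rw [TT, if_pos rfl, e]
      apply key
      rw [Nat.cast_sub (Nat.one_le_pow _ _ hq1)]
      push_cast
      rw [h1]
      decide +kernel
    · rw [TT, if_neg (by norm_num), if_pos rfl, e]
      apply key
      rw [Nat.cast_mul, Nat.cast_sub hq1]
      push_cast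
      rw [h1]
      decide +kernel
  · simp only [IsT, if_true] at hi
    simp only [md, if_true] at h
    exact H627.E7.odd_TT hi h

/-- an odd prime does not divide both kinds of tori -/
theorem sep {i j r : ℕ} (hq : 2 ≤ q) (hr : r.Prime) (hr2 : r ≠ 2) (hi : IsT s i) (hj : IsB s j) (h : r ∣ TT q i)
    (h' : r ∣ TT q j) : False := by
  cases s
  · simp only [IsT, Bool.false_eq_true, if_false] at hi
    simp only [IsB, Bool.false_eq_true, if_false] at hj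
    exact H267.E7R.sep hq hr hr2 hj hi h' (H267.E7R.dvd_sub hq hi h)
  · simp only [IsT, if_true] at hi
    simp only [IsB, if_true] at hj
    exact H267.E7R.sep hq hr hr2 hi hj h (H267.E7R.dvd_sub hq hj h')

/-- the common divisors of two such tori are trivial -/
theorem cop {i j D : ℕ} (hq : 2 ≤ q) (h4 : q % 4 = md s) (hi : IsT s i) (hj : IsB s j) (h : D ∣ TT q i)
    (h' : D ∣ TT q j) : D = 1 := by
  by_contra hD
  have hr := Nat.minFac_prime hD
  have hd := Nat.minFac_dvd D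
  refine sep hq hr (fun h2 => ?_) hi hj (hd.trans h) (hd.trans h')
  rw [h2] at hd
  exact TT_odd h4 hi (hd.trans h)

/-- lower bound -/
theorem NN_ge {i : ℕ} (hi : i ∈ C4) (hq : 3 ≤ q) : q ^ 6 * 3 ≤ 28 * NN q i := by
  have h1 := H334.E7.Size.pn_le (q := q) (by omega) hi
  have e6 : q ^ 3 ≤ q ^ 6 := Nat.pow_le_pow_right (by omega) (by norm_num)
  have e7 : q ^ 7 = q * q ^ 6 := by ring
  rw [H627.E7.mem_C4] at hi
  rcases hi with rfl | rfl | rfl | rfl
  · change q ^ 7 - 1 ≤ NN q 7 * ((q - 1) * 7) at h1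
    obtain ⟨t, rfl⟩ : ∃ t, q = t + 1 := ⟨q - 1, by omega⟩
    rw [Nat.add_sub_cancel] at h1
    have h2 : t * (t + 1) ^ 6 ≤ (t + 1) ^ 7 - 1 := by
      have : 1 ≤ (t + 1) ^ 6 := Nat.one_le_pow _ _ (by omega)
      have : (t + 1) ^ 7 = t * (t + 1) ^ 6 + (t + 1) ^ 6 := by ring
      omega
    have h3 : t * (t + 1) ^ 6 ≤ t * (7 * NN (t + 1) 7) := by
      refine h2.trans (h1.trans (le_of_eq (by ring)))
    have h4 := Nat.le_of_mul_le_mul_left h3 (by omega)
    omega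
  · change (q - 1) * (q ^ 6 + q ^ 3 + 1) ≤ NN q 9 * ((q - 1) * 3) at h1
    have h3 : (q - 1) * (q ^ 6 + q ^ 3 + 1) ≤ (q - 1) * (3 * NN q 9) := h1.trans (le_of_eq (by ring))
    have h4 := Nat.le_of_mul_le_mul_left h3 (by omega)
    omega
  · change q ^ 7 + 1 ≤ NN q 14 * ((q + 1) * 7) at h1
    have h2 : (q + 1) * (3 * q ^ 6) ≤ 4 * (q * q ^ 6) := by nlinarith [Nat.zero_le (q ^ 6)]
    have h3 : (q + 1) * (3 * q ^ 6) ≤ (q + 1) * (28 * NN q 14) := by
      calc (q + 1) * (3 * q ^ 6) ≤ 4 * (q ^ 7 + 1) := by omega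
        _ ≤ 4 * (NN q 14 * ((q + 1) * 7)) := Nat.mul_le_mul_left _ h1
        _ = _ := by ring
    have h4 := Nat.le_of_mul_le_mul_left h3 (by omega)
    omega
  · change (q + 1) * (q ^ 6 - q ^ 3 + 1) ≤ NN q 18 * ((q + 1) * 3) at h1
    have h3 : (q + 1) * (q ^ 6 - q ^ 3 + 1) ≤ (q + 1) * (3 * NN q 18) := h1.trans (le_of_eq (by ring))
    have h4 := Nat.le_of_mul_le_mul_left h3 (by omega)
    have h5 : 27 ≤ q ^ 3 := by
      calc 27 = 3 ^ 3 := by norm_num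
        _ ≤ q ^ 3 := Nat.pow_le_pow_left hq 3
    have h6 : 27 * q ^ 3 ≤ q ^ 6 := by
      calc 27 * q ^ 3 ≤ q ^ 3 * q ^ 3 := Nat.mul_le_mul_right _ h5
        _ = q ^ 6 := by ring
    omega

/-- upper bound -/
theorem TT_le {i : ℕ} (hi : i ∈ C4) (hq : 3 ≤ q) (h2 : Nat.gcd 2 (q - 1) = 2) : 3 * TT q i ≤ 2 * q ^ 7 := by
  have h1 := H334.E7.Lay.tt_mul (u := q) (by omega) hi
  rw [h2] at h1
  have e6 : q ^ 3 ≤ q ^ 6 := Nat.pow_le_pow_right (by omega) (by norm_num)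
  have e7 : q ^ 7 = q * q ^ 6 := by ring
  have e1 : 1 ≤ q ^ 6 := Nat.one_le_pow _ _ (by omega)
  have e2 : 1 ≤ q ^ 3 := Nat.one_le_pow _ _ (by omega)
  rw [H627.E7.mem_C4] at hi
  rcases hi with rfl | rfl | rfl | rfl
  · change _ = q ^ 7 - 1 at h1
    omega
  · change _ = (q - 1) * (q ^ 6 + q ^ 3 + 1) at h1
    have h5 : 27 ≤ q ^ 3 := by
      calc 27 = 3 ^ 3 := by norm_num
        _ ≤ q ^ 3 := Nat.pow_le_pow_left hq 3
    have h6 : 27 * q ^ 3 ≤ q ^ 6 := by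
      calc 27 * q ^ 3 ≤ q ^ 3 * q ^ 3 := Nat.mul_le_mul_right _ h5
        _ = q ^ 6 := by ring
    have h3 : (q - 1) * (q ^ 6 + q ^ 3 + 1) ≤ q * (q ^ 6 + q ^ 3 + 1) := Nat.mul_le_mul_right _ (by omega)
    have h4 : 3 * (q * (q ^ 6 + q ^ 3 + 1)) ≤ 4 * (q * q ^ 6) := by
      calc 3 * (q * (q ^ 6 + q ^ 3 + 1)) = q * (3 * (q ^ 6 + q ^ 3 + 1)) := by ring
        _ ≤ q * (4 * q ^ 6) := Nat.mul_le_mul_left _ (by omega)
        _ = _ := by ring
    omega
  · change _ = q ^ 7 + 1 at h1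
    have : 1 ≤ q ^ 7 := Nat.one_le_pow _ _ (by omega)
    have : 3 ≤ q ^ 7 := hq.trans (Nat.le_self_pow (by norm_num) q)
    omega
  · change _ = (q + 1) * (q ^ 6 - q ^ 3 + 1) at h1
    have h3 : (q + 1) * (q ^ 6 - q ^ 3 + 1) ≤ (q + 1) * q ^ 6 := Nat.mul_le_mul_left _ (by omega)
    have h4 : 3 * ((q + 1) * q ^ 6) ≤ 4 * (q * q ^ 6) := by nlinarith
    omega

end num

/-! ### groups -/

section row

variable {s : Bool} {p k : ℕ} {S : Type u} [Group S]

theorem three_le (R : RowS s p k S) : 3 ≤ p ^ k := by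
  have h1 := R.hp.two_le
  have h2 := R.h2
  have h3 := R.hk
  calc 3 ≤ p := by omega
    _ ≤ p ^ k := Nat.le_self_pow (by omega) p

theorem two_le (R : RowS s p k S) : 2 ≤ p ^ k := by
  have := three_le R
  omega

theorem not_two (R : RowS s p k S) {i r : ℕ} (hi : IsT s i) (hr : Prim (p ^ k) i r) {x : S}
    (hx : r ∣ orderOf x) : ¬ 2 ∣ orderOf x := fun h2 =>
  TT_odd R.hs hi (h2.trans (R.tor i hi.c4 x r hr hx))

theorem nadj_two (R : RowS s p k S) {i r : ℕ} (hi : IsT s i) (hr : Prim (p ^ k) i r) :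
    ¬ ∃ x : S, orderOf x = 2 * r := by
  rintro ⟨x, hx⟩
  exact not_two R hi hr (x := x) (by rw [hx]; exact dvd_mul_left _ _) (by rw [hx]; exact dvd_mul_right _ _)

theorem nadj_two' (R : RowS s p k S) {i r : ℕ} (hi : IsT s i) (hr : Prim (p ^ k) i r) :
    ¬ ∃ x : S, orderOf x = r * 2 := by
  rw [mul_comm]
  exact nadj_two R hi hr

theorem clash (R : RowS s p k S) {a b r w t : ℕ} (ha : IsT s a) (hb : IsB s b) (hr : Prim (p ^ k) a r)
    (hw : Prim (p ^ k) b w) (ht : t.Prime) (ht2 : t ≠ 2) (h1 : ∃ x : S, orderOf x = r * t)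
    (h2 : ∃ x : S, orderOf x = w * t) : False := by
  obtain ⟨x, hx⟩ := h1
  obtain ⟨y, hy⟩ := h2
  have h3 := R.tor a ha.c4 x r hr (hx ▸ Dvd.intro t rfl)
  have h4 := R.tor b hb.c4 y w hw (hy ▸ Dvd.intro t rfl)
  exact sep (two_le R) ht ht2 ha hb ((Dvd.intro_left r rfl).trans (hx ▸ h3)) ((Dvd.intro_left w rfl).trans (hy ▸ h4))

theorem ex8 (R : RowS s p k S) {i : ℕ} (hi : i ∈ C8) : ∃ r, Prim (p ^ k) i r :=
  H627.E7.exists_prim8 hi (two_le R)

theorem ex_a (R : RowS s p k S) {a : ℕ} (ha : IsT s a) : ∃ r, Prim (p ^ k) a r ∧ r ∣ Nat.card S := by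
  obtain ⟨r, hr⟩ := ex8 R ha.c8
  exact ⟨r, hr, (R.top a ha).dvd r hr⟩

theorem side (R : RowS s p k S) : ∃ b, IsB s b ∧ Fl S (p ^ k) b := by
  rcases R.one (b1 s) (isB_b1 s).c8 (b2 s) (isB_b2 s).c8 (b_ne s) with h | h
  · exact ⟨_, isB_b1 s, h⟩
  · exact ⟨_, isB_b2 s, h⟩

theorem ex_b (R : RowS s p k S) : ∃ b, IsB s b ∧ ∃ w, Prim (p ^ k) b w ∧ w ∣ Nat.card S := by
  obtain ⟨b, hb, hF⟩ := side R
  obtain ⟨r, hr⟩ := ex8 R hb.c8
  exact ⟨b, hb, r, hr, hF.dvd r hr⟩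

/-- one prime for each of the classes of `C ⊆ C8` -/
theorem coq_of (R : RowS s p k S) (C : Finset ℕ) (hC : C ⊆ C8) (hF : ∀ i ∈ C, Fl S (p ^ k) i) :
    ∃ f : ℕ → ℕ, (∀ i ∈ C, Prim (p ^ k) i (f i)) ∧ H627.E7.IsCoq S (C.image f) ∧ (∀ r ∈ C.image f, 3 < r) ∧
      (C.image f).card = C.card := by
  classical
  have hex : ∀ i ∈ C, ∃ r, Prim (p ^ k) i r := fun i hi => H627.E7.exists_prim8 (hC hi) (two_le R)
  choose! f hf using hex
  refine ⟨f, hf, ⟨?_, ?_, ?_⟩, ?_, ?_⟩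
  · intro r hr
    obtain ⟨i, hi, rfl⟩ := Finset.mem_image.1 hr
    exact (hf i hi).prime
  · intro r hr
    obtain ⟨i, hi, rfl⟩ := Finset.mem_image.1 hr
    exact (hF i hi).dvd _ (hf i hi)
  · intro r hr s hs hrs
    obtain ⟨i, hi, rfl⟩ := Finset.mem_image.1 hr
    obtain ⟨j, hj, rfl⟩ := Finset.mem_image.1 hs
    exact R.nad i (hC hi) j (hC hj) (fun h => hrs (by rw [h])) _ _ (hf i hi) (hf j hj)
  · intro r hr
    obtain ⟨i, hi, rfl⟩ := Finset.mem_image.1 hr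
    exact H627.E7.three_lt (hC hi) (two_le R) (hf i hi)
  · apply Finset.card_image_of_injOn
    intro i hi j hj hij
    have h1 := hf i hi
    have h2 := hf j hj
    rw [← hij] at h2
    exact h1.unique h2

/-- **A coclique of seven primes `> 3`.** -/
theorem coq (R : RowS s p k S) : ∃ ρ : Finset ℕ, H627.E7.IsCoq S ρ ∧ (∀ r ∈ ρ, 3 < r) ∧ ρ.card = 7 := by
  classical
  obtain ⟨C, hC, hcard, hF⟩ : ∃ C : Finset ℕ, C ⊆ C8 ∧ C.card = 7 ∧ ∀ i ∈ C, Fl S (p ^ k) i := by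
    by_cases h : ∀ i ∈ C8, Fl S (p ^ k) i
    · exact ⟨C8.erase 5, Finset.erase_subset _ _, by decide, fun i hi => h i (Finset.mem_of_mem_erase hi)⟩
    · push Not at h
      obtain ⟨i, hi, hni⟩ := h
      refine ⟨C8.erase i, Finset.erase_subset _ _, ?_, fun j hj => ?_⟩
      · rw [Finset.card_erase_of_mem hi]
        decide
      · obtain ⟨h1, h2⟩ := Finset.mem_erase.1 hj
        exact (R.one j h2 i hi h1).resolve_right hni
  obtain ⟨f, -, h1, h2, h3⟩ := coq_of R C hC hF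
  exact ⟨_, h1, h2, h3.trans hcard⟩

end row

end Cfsg.Agent.R2.Spec.X1.E7
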