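import Cfsg.Agent.H962.E7.Frame
import Cfsg.Agent.R2.Spec.X1.E7.Def

/-!
# `E₇(q)`, `q` odd: the frame (helper13, S3435; after helper962, S3482)

* `LS s p k L` : what is used of `L = E₇(p ^ k)`;
* `frame` : `G` with the element orders of `L` : `K`, `S` with `Red G K S` and `RowS s p k S`.
-/

set_option autoImplicit false

namespace Cfsg.Agent.R2.Spec.X1.E7

open Subgroup
open Cfsg.Agent.H436 Cfsg.Agent.H420.QR Cfsg.Agent.H962.E7

universe u v

/-- what is used of `L = E₇(p ^ k)` for the frame -/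
structure LS (s : Bool) (p k : ℕ) (L : Type*) [Group L] : Prop where
  hp : p.Prime
  hk : 1 ≤ k
  h2 : p ≠ 2
  hs : p ^ k % 4 = md s
  tor : Tor L (p ^ k)
  nad : Nad L (p ^ k)
  pi : ∀ r : ℕ, r.Prime → r ∣ Nat.card L → r = p ∨ ∃ i ∈ ({8, 10, 12, 14, 18} : Finset ℕ), r ∣ (p ^ k) ^ i - 1
  dvd : ∀ i ∈ C8, ∀ r : ℕ, Prim (p ^ k) i r → r ∣ Nat.card L
  elt : ∀ i ∈ C4, ∃ x : L, orderOf x = NN (p ^ k) i

section

variable {s : Bool} {p k : ℕ} {L : Type v} [Group L]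

theorem LS.two_le (h : LS s p k L) : 2 ≤ p ^ k := by
  have h1 := h.hp.two_le
  calc 2 ≤ p := h1
    _ = p ^ 1 := (pow_one p).symm
    _ ≤ p ^ k := Nat.pow_le_pow_right (by omega) h.hk

/-- **The frame.** -/
theorem frame [Finite L] (h : LS s p k L)
    {G : Type u} [Group G] [Finite G] (hω : ∀ m : ℕ, (∃ g : G, orderOf g = m) ↔ ∃ y : L, orderOf y = m) :
    ∃ (K : Subgroup G) (_ : K.Normal) (S : Subgroup (G ⧸ K)) (_ : S.Normal), Red G K S ∧ RowS s p k ↥S := by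
  have hq := h.two_le
  have hNN : ∀ i ∈ C4, ∀ r : ℕ, r.Prime → r ∣ NN (p ^ k) i → Prim (p ^ k) i r := fun i hi r hr hd =>
    H334.E7.Lay.nn_prim hq hi hr hd
  have hodd : ∀ i, IsT s i → ¬ 2 ∣ TT (p ^ k) i := fun i hi => TT_odd h.hs hi
  -- primes
  have hdG : ∀ i ∈ C8, ∀ r : ℕ, Prim (p ^ k) i r → r ∣ Nat.card G := by
    intro i hi r hr
    have := Fact.mk hr.prime
    obtain ⟨y, hy⟩ := exists_prime_orderOf_dvd_card' r (h.dvd i hi r hr)
    obtain ⟨g, hg⟩ := (hω r).2 ⟨y, hy⟩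
    rw [← hg]
    exact orderOf_dvd_natCard g
  have hnG : ∀ i ∈ C8, ∀ j ∈ C8, i ≠ j → ∀ r s : ℕ, Prim (p ^ k) i r → Prim (p ^ k) j s →
      ¬ ∃ x : G, orderOf x = r * s := by
    intro i hi j hj hij r s hr hs hx
    exact h.nad i hi j hj hij r s hr hs ((hω _).1 hx)
  -- cocliques with two given primes
  have hcoq : ∀ i ∈ C8, ∀ j ∈ C8, i ≠ j → ∀ r s : ℕ, Prim (p ^ k) i r → Prim (p ^ k) j s →
      ∃ ρ : Finset ℕ, IsCoq G ρ ∧ 3 ≤ ρ.card ∧ r ∈ ρ ∧ s ∈ ρ := by
    intro i hi j hj hij r s hr hs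
    obtain ⟨l, hl, hli, hlj⟩ : ∃ l ∈ C8, l ≠ i ∧ l ≠ j := by
      by_cases h1 : 5 ≠ i ∧ 5 ≠ j
      · exact ⟨5, by decide, h1⟩
      · by_cases h2 : 7 ≠ i ∧ 7 ≠ j
        · exact ⟨7, by decide, h2⟩
        · refine ⟨8, by decide, ?_, ?_⟩ <;> omega
    obtain ⟨t, ht⟩ := exists_prim8 hq hl
    have hrs : r ≠ s := by rintro rfl; exact hij (hr.unique hs)
    have hrt : r ≠ t := by rintro rfl; exact hli (ht.unique hr)
    have hst : s ≠ t := by rintro rfl; exact hlj (ht.unique hs)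
    refine ⟨{r, s, t}, ⟨?_, ?_, ?_⟩, ?_, by simp, by simp⟩
    · intro x hx
      simp only [Finset.mem_insert, Finset.mem_singleton] at hx
      rcases hx with rfl | rfl | rfl
      exacts [hr.prime, hs.prime, ht.prime]
    · intro x hx
      simp only [Finset.mem_insert, Finset.mem_singleton] at hx
      rcases hx with rfl | rfl | rfl
      exacts [hdG i hi _ hr, hdG j hj _ hs, hdG l hl _ ht]
    · intro x hx y hy hxy
      simp only [Finset.mem_insert, Finset.mem_singleton] at hx hy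
      rcases hx with rfl | rfl | rfl <;> rcases hy with rfl | rfl | rfl
      · exact absurd rfl hxy
      · exact hnG i hi j hj hij _ _ hr hs
      · exact hnG i hi l hl (Ne.symm hli) _ _ hr ht
      · exact hnG j hj i hi (Ne.symm hij) _ _ hs hr
      · exact absurd rfl hxy
      · exact hnG j hj l hl (Ne.symm hlj) _ _ hs ht
      · exact hnG l hl i hi hli _ _ ht hr
      · exact hnG l hl j hj hlj _ _ ht hs
      · exact absurd rfl hxy
    · rw [Finset.card_eq_three.2 ⟨r, s, t, hrs, hrt, hst, rfl⟩]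
  -- not adjacent to two
  have h2G : ∀ i ∈ C4, ¬ 2 ∣ TT (p ^ k) i → ∀ r : ℕ, Prim (p ^ k) i r → ¬ ∃ x : G, orderOf x = 2 * r := by
    intro i hi ho r hr hx
    obtain ⟨y, hy⟩ := (hω _).1 hx
    exact ho ((Dvd.intro _ hy.symm).trans (h.tor i hi y r hr (by rw [hy]; exact dvd_mul_left _ _)))
  have hne2 : ∀ i ∈ C8, ∀ r : ℕ, Prim (p ^ k) i r → r ≠ 2 := by
    intro i hi r hr
    have := Prim.lt hr (by have := c8_three hi; omega)
    have := c8_three hi
    omega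
  -- the reduction
  obtain ⟨r₁, hr₁⟩ := exists_prim8 hq (isT_t1 s).c8
  obtain ⟨r₂, hr₂⟩ := exists_prim8 hq (isT_t2 s).c8
  obtain ⟨ρ, hρ, h3, -, -⟩ := hcoq (t1 s) (isT_t1 s).c8 (t2 s) (isT_t2 s).c8 (t_ne s) r₁ r₂ hr₁ hr₂
  obtain ⟨K, hK, S, hS, R⟩ := exists_red hρ h3 ⟨r₁, hr₁.prime, hne2 (t1 s) (isT_t1 s).c8 r₁ hr₁,
    hdG (t1 s) (isT_t1 s).c8 r₁ hr₁, h2G (t1 s) (isT_t1 s).c4 (hodd (t1 s) (isT_t1 s)) r₁ hr₁⟩
  refine ⟨K, hK, S, hS, R, ?_⟩
  have hsimp := R.simple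
  -- good classes
  have hgood : ∀ i ∈ C8, (∀ r : ℕ, Prim (p ^ k) i r → ¬ r ∣ Nat.card ↥K * S.index) → Fl ↥S (p ^ k) i := by
    intro i hi hg
    refine ⟨fun r hr => ?_, fun hi4 => ?_⟩
    · have h1 := hdG i hi r hr
      rw [card_eq_mul (K := K) (S := S)] at h1
      exact (hr.prime.dvd_mul.1 h1).resolve_right (hg r hr)
    · apply exists_of_coprime ((hω _).2 (h.elt i hi4))
      rw [Nat.coprime_iff_gcd_eq_one]
      by_contra hne
      obtain ⟨r, hr, hrd⟩ := Nat.exists_prime_and_dvd hne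
      exact hg r (hNN i hi4 r hr (hrd.trans (Nat.gcd_dvd_left _ _))) (hrd.trans (Nat.gcd_dvd_right _ _))
  have hone : ∀ i ∈ C8, ∀ j ∈ C8, i ≠ j → Fl ↥S (p ^ k) i ∨ Fl ↥S (p ^ k) j := by
    intro i hi j hj hij
    by_contra hcon
    push Not at hcon
    have h1 : ∃ r : ℕ, Prim (p ^ k) i r ∧ r ∣ Nat.card ↥K * S.index := by
      by_contra h2
      push Not at h2
      exact hcon.1 (hgood i hi h2)
    have h2 : ∃ r : ℕ, Prim (p ^ k) j r ∧ r ∣ Nat.card ↥K * S.index := by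
      by_contra h2
      push Not at h2
      exact hcon.2 (hgood j hj h2)
    obtain ⟨r, hr, hrd⟩ := h1
    obtain ⟨s, hs, hsd⟩ := h2
    obtain ⟨ρ, hρ, h3, hrρ, hsρ⟩ := hcoq i hi j hj hij r s hr hs
    have h4 := R.coc' ρ hρ h3 r hrρ s hsρ hrd hsd
    subst h4
    exact hij (hr.unique hs)
  -- a coclique of seven primes of `S`
  have hseven : ∃ σ : Finset ℕ, IsCoq ↥S σ ∧ (∀ r ∈ σ, 3 < r) ∧ 7 ≤ σ.card := by
    choose! f hf using fun i (hi : i ∈ C8) => exists_prim8 hq hi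
    have hinj : Set.InjOn f C8 := by
      intro i hi j hj hij
      have h1 := hf i hi
      rw [hij] at h1
      exact h1.unique (hf j hj)
    have hρ : IsCoq G (C8.image f) := by
      refine ⟨?_, ?_, ?_⟩
      · intro x hx
        obtain ⟨i, hi, rfl⟩ := Finset.mem_image.1 hx
        exact (hf i hi).prime
      · intro x hx
        obtain ⟨i, hi, rfl⟩ := Finset.mem_image.1 hx
        exact hdG i hi _ (hf i hi)
      · intro x hx y hy hxy
        obtain ⟨i, hi, rfl⟩ := Finset.mem_image.1 hx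
        obtain ⟨j, hj, rfl⟩ := Finset.mem_image.1 hy
        exact hnG i hi j hj (fun hij => hxy (by rw [hij])) _ _ (hf i hi) (hf j hj)
    have hcard : (C8.image f).card = 8 := by
      rw [Finset.card_image_of_injOn hinj]
      rfl
    obtain ⟨h1, h2⟩ := R.filter hρ (by rw [hcard]; norm_num)
    refine ⟨_, h1, ?_, by omega⟩
    intro r hr
    obtain ⟨i, hi, rfl⟩ := Finset.mem_image.1 (Finset.mem_filter.1 hr).1
    have := Prim.lt (hf i hi) (by have := c8_three hi; omega)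
    have := c8_three hi
    omega
  have hnA : ¬ Cfsg.Agent.H414.Rad.AltL2 ↥S := by
    obtain ⟨σ, hσ, h3σ, h7⟩ := hseven
    rintro (⟨⟨e⟩⟩ | ⟨F, _, _, -, ⟨e⟩⟩)
    · have hsub : σ ⊆ {5, 7} := by
        intro r hr
        have h1 := hσ.dvd r hr
        have h2 := hσ.prime r hr
        have h3 := h3σ r hr
        rw [Nat.card_congr e.toEquiv, nat_card_alternatingGroup, Nat.card_eq_fintype_card, Fintype.card_fin] at h1
        have h4 : r ∣ Nat.factorial 7 := h1.trans (Nat.div_dvd_of_dvd (by decide))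
        have h5 := (h2.dvd_factorial).1 h4
        have h6 : r = 4 ∨ r = 5 ∨ r = 6 ∨ r = 7 := by omega
        rcases h6 with rfl | rfl | rfl | rfl
        · exact absurd h2 (by norm_num)
        · simp
        · exact absurd h2 (by norm_num)
        · simp
      have := Finset.card_le_card hsub
      have h8 : ({5, 7} : Finset ℕ).card = 2 := by decide
      omega
    · have := psl_two_card_le (hσ.congr e) h3σ
      omega
  have htwo := R.two.resolve_left hnA
  have htop : ∀ i ∈ C4, ¬ 2 ∣ TT (p ^ k) i → Fl ↥S (p ^ k) i := by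
    intro i hi ho
    apply hgood i (c4_subset hi)
    intro r hr hd
    obtain ⟨h1, h2, h3⟩ := htwo r hr.prime (hne2 i (c4_subset hi) r hr) (hdG i (c4_subset hi) r hr) (h2G i hi ho r hr)
    rcases hr.prime.dvd_mul.1 hd with h4 | h4
    · exact h2 h4
    · exact h3 h4
  refine ⟨h.hp, h.hk, h.h2, h.hs, R.simple, R.nonab, ?_, ?_, ?_, hone, fun i hi => htop i hi.c4 (hodd i hi)⟩
  · intro r hr hd
    have := Fact.mk hr
    obtain ⟨g, hg⟩ := exists_prime_orderOf_dvd_card' r (hd.trans R.pi)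
    obtain ⟨y, hy⟩ := (hω r).1 ⟨g, hg⟩
    exact h.pi r hr (by rw [← hy]; exact orderOf_dvd_natCard y)
  · intro i hi x r hr hd
    have h0 := orderOf_pos x
    obtain ⟨g, hg⟩ := R.adj 1 (orderOf x) one_ne_zero (by omega) ⟨x, (one_mul _).symm⟩
    rw [one_mul] at hg
    obtain ⟨y, hy⟩ := (hω _).1 ⟨g, hg⟩
    rw [← hy]
    exact h.tor i hi y r hr (by rw [hy]; exact hd)
  · intro i hi j hj hij r s hr hs hx
    exact hnG i hi j hj hij r s hr hs (R.adj r s hr.prime.ne_zero hs.prime.ne_zero hx)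

end

end Cfsg.Agent.R2.Spec.X1.E7
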