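import Cfsg.Agent.R2.Spec.X1.E7.Def
import Cfsg.Agent.H627.E7.LinPSU

/-!
# `E₇(q)`, `q` odd: linear and unitary groups (helper13, S3435; after helper627, S3482)
-/

set_option autoImplicit false

namespace Cfsg.Agent.R2.Spec.X1.E7

open Cfsg Cfsg.Agent.H436 Cfsg.Agent.H962.E7 Cfsg.Agent.OrdDiv
open Cfsg.Agent.H627.E7 (Lin lin_psl lin_psu wc_psl wc_psu rank_psl rank_psu)

universe u

theorem size {u q m a T : ℕ} (hu : 2 ≤ u) (hq : 3 ≤ q) (hm11 : 11 ≤ m) (ham : a = m / 2)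
    (h1 : u ^ (m - 1) ≤ (u + 1) * T + 1) (hT : 3 * T ≤ 2 * q ^ 7) (h2 : q ^ 6 * 3 ≤ 28 * (u ^ a + 1)) : False := by
  have ha : 5 ≤ a := by omega
  have hm : 2 * a ≤ m := by omega
  obtain ⟨X, hX⟩ : ∃ X, X = u ^ a := ⟨_, rfl⟩
  rw [← hX] at h2
  have h3 : 3 ^ 6 ≤ q ^ 6 := Nat.pow_le_pow_left hq 6
  norm_num at h3
  have hX1 : 77 ≤ X := by omega
  -- `10 X ≥ q ^ 6`
  have hX2 : q ^ 6 ≤ 10 * X := by omega
  -- `u ^ (m - 2) ≤ q ^ 7`
  have h4 : u ^ (m - 2) ≤ q ^ 7 := by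
    have h5 : u ^ (m - 1) = u * u ^ (m - 2) := by
      rw [show m - 1 = (m - 2) + 1 by omega, pow_succ, mul_comm]
    rw [h5] at h1
    have h6 : 2 ^ 9 ≤ u ^ (m - 2) := (Nat.pow_le_pow_left hu 9).trans (Nat.pow_le_pow_right (by omega) (by omega))
    generalize u ^ (m - 2) = Z at h1 h6
    norm_num at h6
    have h7 : 3 * (u * Z) ≤ 2 * (u + 1) * q ^ 7 + 3 := by
      calc 3 * (u * Z) ≤ 3 * ((u + 1) * T + 1) := Nat.mul_le_mul_left _ h1
        _ = (u + 1) * (3 * T) + 3 := by ring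
        _ ≤ (u + 1) * (2 * q ^ 7) + 3 := by gcongr
        _ = _ := by ring
    have h8 : 2 * (u + 1) ≤ 3 * u := by omega
    have h9 : 2 * (u + 1) * q ^ 7 ≤ 3 * u * q ^ 7 := Nat.mul_le_mul_right _ h8
    by_contra hlt
    push Not at hlt
    have h10 : 3 * u * (q ^ 7 + 1) ≤ 3 * u * Z := Nat.mul_le_mul_left _ hlt
    have h11 : 3 * u * Z = 3 * (u * Z) := by ring
    have h12 : 3 * u * (q ^ 7 + 1) = 3 * u * q ^ 7 + 3 * u := by ring
    omega
  -- sixth powers
  have h5 : (u ^ (m - 2)) ^ 6 ≤ (q ^ 7) ^ 6 := Nat.pow_le_pow_left h4 6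
  have h6 : (q ^ 7) ^ 6 ≤ 10 ^ 7 * X ^ 7 := by
    calc (q ^ 7) ^ 6 = (q ^ 6) ^ 7 := by ring
      _ ≤ (10 * X) ^ 7 := Nat.pow_le_pow_left hX2 7
      _ = 10 ^ 7 * X ^ 7 := by ring
  have h7 : u ^ ((m - 2) * 6 - a * 7) * X ^ 7 = (u ^ (m - 2)) ^ 6 := by
    rw [hX, ← pow_mul, ← pow_mul, ← pow_add]
    congr 1
    omega
  have h8 : u ^ ((m - 2) * 6 - a * 7) ≤ 10 ^ 7 := by
    have h9 : u ^ ((m - 2) * 6 - a * 7) * X ^ 7 ≤ 10 ^ 7 * X ^ 7 := by
      rw [h7]
      exact h5.trans h6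
    exact Nat.le_of_mul_le_mul_right h9 (by positivity)
  have hcase : m = 11 ∨ m = 12 ∨ 13 ≤ m := by omega
  rcases hcase with rfl | rfl | hm13
  · -- exponent 19
    have ha' : a = 5 := by omega
    subst ha'
    norm_num at h8
    have hu2 : u = 2 := by
      by_contra hne
      have : 3 ^ 19 ≤ u ^ 19 := Nat.pow_le_pow_left (by omega) 19
      norm_num at this
      omega
    subst hu2
    omega
  · have ha' : a = 6 := by omega
    subst ha'
    norm_num at h8
    have hu2 : u = 2 := by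
      by_contra hne
      have : 3 ^ 18 ≤ u ^ 18 := Nat.pow_le_pow_left (by omega) 18
      norm_num at this
      omega
    subst hu2
    omega
  · have h9 : 24 ≤ (m - 2) * 6 - a * 7 ∨ m = 14 := by omega
    rcases h9 with h9 | rfl
    · have h10 : 2 ^ 24 ≤ u ^ ((m - 2) * 6 - a * 7) :=
        (Nat.pow_le_pow_left hu 24).trans (Nat.pow_le_pow_right (by omega) h9)
      norm_num at h10
      omega
    · have ha' : a = 7 := by omega
      subst ha'
      norm_num at h8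
      have hu2 : u = 2 := by
        by_contra hne
        have : 3 ^ 23 ≤ u ^ 23 := Nat.pow_le_pow_left (by omega) 23
        norm_num at this
        omega
      subst hu2
      -- `u = 2`, `m = 14`
      have h11 : q ^ 6 ≤ 1204 := by omega
      have h12 : q = 3 := by
        by_contra hne
        have : 4 ^ 6 ≤ q ^ 6 := Nat.pow_le_pow_left (by omega) 6
        norm_num at this
        omega
      subst h12
      norm_num at h4

section

variable {s : Bool} {S : Type u} [Group S] {m u p k : ℕ} {w cls : ℕ → ℕ}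

/-- the classes of the primes not adjacent to 2 -/
theorem cls_of (L : Lin S m u w cls) (R : RowS s p k S) (hm : 11 ≤ m) {i r : ℕ} (hi : IsT s i)
    (hr : Prim (p ^ k) i r) : 3 < r ∧ r ∣ Nat.card S ∧ 2 < w r ∧ (cls r = m ∨ cls r = m - 1) := by
  have h3 := H627.E7.three_lt hi.c8 (two_le R) hr
  have hd := (R.top i hi).dvd r hr
  have hw : m < w r + 2 := by
    by_contra hlt
    exact nadj_two' R hi hr (L.wc.adj r 2 hr.prime Nat.prime_two (by omega) (by rw [L.two]; omega))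
  obtain ⟨h4, h5⟩ := L.eq r hr.prime (by omega) hd
  exact ⟨h3, hd, by omega, by omega⟩

/-- different classes of `q` have different classes of `u` -/
theorem cls_ne (L : Lin S m u w cls) (R : RowS s p k S) (hm : 11 ≤ m) {i r j t : ℕ} (hi : IsT s i)
    (hr : Prim (p ^ k) i r) (hj : IsT s j) (ht : Prim (p ^ k) j t) (hij : i ≠ j) : cls r ≠ cls t := by
  intro he
  obtain ⟨h1, h2, h3, -⟩ := cls_of L R hm hi hr
  obtain ⟨h4, h5, h6, -⟩ := cls_of L R hm hj ht
  refine R.nad i hi.c8 j hj.c8 hij r t hr ht (L.wc.clq r t hr.prime ht.prime h1 h4 ?_ h2 h5 h3 h6 he)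
  rintro rfl
  exact hij (hr.unique ht)

theorem lin_false (L : Lin S m u w cls) (R : RowS s p k S) (hm : 11 ≤ m) (hu : 2 ≤ u) : False := by
  have i1 := isT_t1 s
  have i2 := isT_t2 s
  obtain ⟨r, hr⟩ := ex8 R i1.c8
  obtain ⟨t, ht⟩ := ex8 R i2.c8
  have c14 := (cls_of L R hm i1 hr).2.2.2
  have c18 := (cls_of L R hm i2 ht).2.2.2
  have hne := cls_ne L R hm i1 hr i2 ht (t_ne s)
  have hq := three_le R
  -- all primes of one class `i` have the same class
  have hsame : ∀ i : ℕ, IsT s i → ∀ r t : ℕ, Prim (p ^ k) i r → Prim (p ^ k) i t → cls r = cls t := by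
    intro i hi r t hr ht
    have hi4 : i ∈ C4 := hi.c4
    have key : ∀ r t : ℕ, Prim (p ^ k) i r → Prim (p ^ k) i t → cls r = m → cls t = m - 1 → False := by
      intro r t hr ht h1 h2
      have h3 := cls_of L R hm hi hr
      have h4 := cls_of L R hm hi ht
      have hrs : r ≠ t := by
        rintro rfl
        omega
      obtain ⟨x, hx⟩ := (R.top i hi).elt hi4
      have hN := H627.E7.NN_pos hi4 (two_le R)
      have hd : r * t ∣ orderOf x := by
        rw [hx]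
        exact ((Nat.coprime_primes hr.prime ht.prime).2 hrs).mul_dvd_of_dvd_of_dvd
          (H627.E7.dvd_NN hi4 (two_le R) hr) (H627.E7.dvd_NN hi4 (two_le R) ht)
      exact L.nadj r t hr.prime ht.prime h3.2.2.1 h4.2.2.1 h3.2.1 h4.2.1 h1 h2
        ⟨x ^ (orderOf x / (r * t)), orderOf_pow_orderOf_div (by omega) hd⟩
    rcases (cls_of L R hm hi hr).2.2.2 with h1 | h1 <;>
      rcases (cls_of L R hm hi ht).2.2.2 with h2 | h2
    · omega
    · exact (key r t hr ht h1 h2).elim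
    · exact (key t r ht hr h2 h1).elim
    · omega
  -- the class of even size
  have hA : ∀ i r : ℕ, IsT s i → Prim (p ^ k) i r → cls r = 2 * (m / 2) →
      (p ^ k) ^ 6 * 3 ≤ 28 * (u ^ (m / 2) + 1) := by
    intro i r hi hr hc
    have hi4 : i ∈ C4 := hi.c4
    have h1 := L.ord (m / 2) (NN (p ^ k) i) (by omega) ((R.top i hi).elt hi4) (fun t ht hd => by
      have h2 := H627.E7.prim_of_dvd_NN hi4 (two_le R) ht hd
      exact ⟨(cls_of L R hm hi h2).2.2.1, (hsame i hi t r h2 hr).trans hc⟩)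
    exact (NN_ge hi4 hq).trans (Nat.mul_le_mul_left _ h1)
  -- the class of size `m - 1`
  have hB : ∀ i r : ℕ, IsT s i → Prim (p ^ k) i r → cls r = m - 1 →
      ∃ T, u ^ (m - 1) ≤ (u + 1) * T + 1 ∧ 3 * T ≤ 2 * (p ^ k) ^ 7 := by
    intro i r hi hr hc
    have hi4 : i ∈ C4 := hi.c4
    obtain ⟨z, hz1, hz2⟩ := L.big
    have h1 := hz2 r hr.prime (cls_of L R hm hi hr).2.2.1 hc
    have h2 := R.tor i hi4 z r hr h1
    have h3 := TT_le hi4 (three_le R) (gcd_two R.hs)
    have h4 : 0 < TT (p ^ k) i := H334.E7.Size.tt_pos (two_le R) hi4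
    have h5 := Nat.le_of_dvd h4 h2
    exact ⟨_, hz1, (Nat.mul_le_mul_left 3 h5).trans h3⟩
  have hA' : (p ^ k) ^ 6 * 3 ≤ 28 * (u ^ (m / 2) + 1) := by
    by_cases h1 : cls r = 2 * (m / 2)
    · exact hA _ r i1 hr h1
    · exact hA _ t i2 ht (by omega)
  obtain ⟨T, hB1, hB2⟩ : ∃ T, u ^ (m - 1) ≤ (u + 1) * T + 1 ∧ 3 * T ≤ 2 * (p ^ k) ^ 7 := by
    by_cases h1 : cls r = m - 1
    · exact hB _ r i1 hr h1
    · exact hB _ t i2 ht (by omega)
  exact size hu hq hm rfl hB1 hB2 hA'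

end

/-- **Row R1.** -/
theorem row_psl {s : Bool} {p k m v : ℕ} {S : Type u} [Group S] [Finite S] (R : RowS s p k S)
    (hg : IsNamed (.psl m v) S) : False := by
  obtain ⟨F, _, _, hF, ⟨e⟩⟩ := hg.real
  subst hF
  have hm := hg.cond.1
  obtain ⟨ρ, hρ, h3, h7⟩ := coq R
  have h9 := rank_psl hm e hρ h3 (by omega)
  have h11 := (wc_psl (F := F) (n := m) (by omega)).half (hρ.congr e) h3 (by omega)
  exact lin_false ((lin_psl (F := F) (m := m) (by omega)).congr e) R (by omega) Fintype.one_lt_card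

/-- **Row R2.** -/
theorem row_psu {s : Bool} {p k m v : ℕ} {S : Type u} [Group S] [Finite S] (R : RowS s p k S)
    (hg : IsNamed (.psu m v) S) : False := by
  obtain ⟨F, _, _, hF, ⟨e⟩⟩ := hg.real
  have hm := hg.cond.1
  obtain ⟨ρ, hρ, h3, h7⟩ := coq R
  have h9 := rank_psu hF hm e hρ h3 (by omega)
  have h11 := (wc_psu hF (n := m) (by omega)).half (hρ.congr e) h3 (by omega)
  exact lin_false ((lin_psu hF (m := m) (by omega)).congr e) R (by omega) (ClassicalGeometry.GUBasic.two_le hF)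

end Cfsg.Agent.R2.Spec.X1.E7
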