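import Cfsg.Agent.R2.Spec.X1.E7.OrthNum
import Cfsg.Agent.H706.ESeven.Plus
import Cfsg.Agent.H706.ESeven.Minus

/-!
# `E₇(q)`, `q` odd: the rows `PΩ±` (helper13, S3435; after helper706, S3482)
-/

set_option autoImplicit false
set_option linter.unusedVariables false
set_option linter.unusedSectionVars false

namespace Cfsg.Agent.R2.Spec.X1.E7

open Cfsg Cfsg.Agent.H436 Cfsg.Agent.H962.E7 Cfsg.Agent.H72.AdjOrth Cfsg.Agent.H377
open Cfsg.Agent.H706.ESeven (exists_odd_prime c4_odd Ctx Top dvd_of_even dvd_of_odd one_of_dvd sub_mul_add card_ge_one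
  ctx_plus ctx_minus AllC sv2 minus_adj_s ordM)

universe u

section row

variable {σ : Bool} {p k : ℕ} {S : Type u} [Group S] {F : Type} [Field F] [Finite F] {m : ℕ} {δ : ℤ}

/-- the classes of nonadjacent primes -/
theorem ee_ne (R : RowS σ p k S) (C : Ctx S F m δ) {a b x y : ℕ} (ha : a ∈ C4) (hb : b ∈ C4) (hab : a ≠ b)
    (hx : Prim (p ^ k) a x) (hy : Prim (p ^ k) b y) (hd : x ∣ Nat.card S) (hxv : ¬ x ∣ Nat.card F)
    (hyv : ¬ y ∣ Nat.card F) : ee (Nat.card F) x ≠ ee (Nat.card F) y := by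
  intro h
  have h2 : ∀ c ∈ C4, 2 ≤ c := by decide
  have hx2 := hx.odd (h2 a ha)
  have hy2 := hy.odd (h2 b hb)
  refine R.nad a (H627.E7.C4_sub ha) b (H627.E7.C4_sub hb) hab x y hx hy
    (C.clq hx.prime hy.prime (by omega) (by omega) ?_ hxv hyv hd h)
  rintro rfl
  exact hab (hx.unique hy)

theorem not_adj (R : RowS σ p k S) {a b x y : ℕ} (ha : a ∈ C4) (hb : b ∈ C4) (hab : a ≠ b)
    (hx : Prim (p ^ k) a x) (hy : Prim (p ^ k) b y) : ¬ ∃ g : S, orderOf g = x * y :=
  R.nad a (H627.E7.C4_sub ha) b (H627.E7.C4_sub hb) hab x y hx hy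

/-- the top classes of the primes of the classes 14, 18 -/
theorem top_a (R : RowS σ p k S) (C : Ctx S F m δ) {a x : ℕ} (ha : IsT σ a) (hx : Prim (p ^ k) a x)
    (hd : x ∣ Nat.card S) : ¬ x ∣ Nat.card F ∧ Top m δ (ee (Nat.card F) x) :=
  C.top hx.prime (c4_odd ha.c4 hx).2 hd (nadj_two R ha hx)

/-- **The clash**: `s` odd prime dividing `v² - 1`, adjacent to a prime of class 14 or 18 and not to 2 … -/
theorem clash_s (R : RowS σ p k S) (C : Ctx S F m δ) {a b x w s : ℕ} (ha : IsT σ a) (hb : IsB σ b)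
    (hx : Prim (p ^ k) a x) (hw : Prim (p ^ k) b w) (hwt : wO (Nat.card F) w + 2 ≤ m)
    (hs : s.Prime) (hs2 : s ≠ 2) (hsv : s ∣ Nat.card F + 1 ∨ s ∣ Nat.card F - 1) (h1 : ∃ g : S, orderOf g = x * s) :
    False := by
  have hsv2 : s ∣ Nat.card F ^ 2 - 1 := by
    have e1 : Nat.card F ^ (2 * 1) - 1 = (Nat.card F ^ 1 + 1) * (Nat.card F ^ 1 - 1) := sub_mul_add
    rw [mul_one, pow_one] at e1
    rw [e1]
    rcases hsv with h | h
    · exact h.mul_right _
    · exact h.mul_left _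
  obtain ⟨-, h2, -⟩ := one_of_dvd (F := F) hs hs2 hsv2
  have hab : a ≠ b := ha.ne hb
  have hne : w ≠ s := by
    rintro rfl
    exact not_adj R ha.c4 hb.c4 hab hx hw h1
  exact clash R ha hb hx hw hs hs2 h1 (C.adj hw.prime hs hne (by rw [h2]; omega))

end row


section plus

variable {σ : Bool} {p k : ℕ} {S : Type u} [Group S] {F : Type} [Field F] [Finite F] {m : ℕ}

theorem plus_core (R : RowS σ p k S) (C : Ctx S F m 1) {a a' b x y w : ℕ} (ha : IsT σ a)
    (ha' : IsT σ a') (hb : IsB σ b) (hx : Prim (p ^ k) a x) (hy : Prim (p ^ k) a' y)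
    (hw : Prim (p ^ k) b w) (hxv : ¬ x ∣ Nat.card F) (hyv : ¬ y ∣ Nat.card F)
    (hxc : ee (Nat.card F) x = 2 * (m - 1))
    (hyc : ee (Nat.card F) y = m - 1 ∨ ee (Nat.card F) y = m)
    (hwt : wO (Nat.card F) w + 2 ≤ m) : False := by
  have hm := C.hm
  obtain ⟨hxo, hx2⟩ := c4_odd ha.c4 hx
  obtain ⟨hyo, hy2⟩ := c4_odd ha'.c4 hy
  have hX := dvd_of_even hx.prime hxv hxc
  by_cases hv3 : Nat.card F = 3
  · refine nadj_two R ha hx (C.two_blk (ε := -1) (ε' := -1) (by norm_num) hxo (elt_tor_minus (by omega) hX)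
      (elt_ell ?_))
    rw [hv3]
  · obtain ⟨s, hs, hs2, hsv⟩ := exists_odd_prime (v := Nat.card F) (Finite.one_lt_card) hv3
    have hso := hs.odd_of_ne_two hs2
    have hsv2 : s ∣ Nat.card F ^ 2 - 1 := by
      have e1 : Nat.card F ^ (2 * 1) - 1 = (Nat.card F ^ 1 + 1) * (Nat.card F ^ 1 - 1) := sub_mul_add
      rw [mul_one, pow_one] at e1
      rw [e1]
      rcases hsv with h | h
      · exact h.mul_right _
      · exact h.mul_left _
    obtain ⟨-, -, hes⟩ := one_of_dvd (F := F) hs hs2 hsv2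
    rcases hsv with h | h
    · have hne : x ≠ s := by
        rintro rfl
        omega
      exact clash_s R C ha hb hx hw hwt hs hs2 (Or.inl h)
        (C.blk (ε := -1) (ε' := -1) (by norm_num) hxo hso ((Nat.coprime_primes hx.prime hs).2 hne)
          (elt_tor_minus (by omega) hX) (elt_ell h))
    · have hne : y ≠ s := by
        rintro rfl
        omega
      have hco := (Nat.coprime_primes hy.prime hs).2 hne
      refine clash_s R C ha' hb hy hw hwt hs hs2 (Or.inr h) ?_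
      rcases hyc with hyc | hyc
      · exact C.blk (ε := 1) (ε' := 1) (by norm_num) hyo hso hco
          (elt_tor_plus (by omega) (dvd_of_odd hyc)) (elt_hyp h)
      · refine C.of_odd (hyo.mul hso) (elt_tor_plus (by omega) (hco.mul_dvd_of_dvd_of_dvd (dvd_of_odd hyc) ?_))
        have h2 := Nat.sub_dvd_pow_sub_pow (Nat.card F) 1 m
        rw [one_pow] at h2
        exact h.trans h2

theorem plus_false (R : RowS σ p k S) (C : Ctx S F m 1) : False := by
  have hm := C.hm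
  have i1 := isT_t1 σ
  have i2 := isT_t2 σ
  obtain ⟨r, hr, hrd⟩ := ex_a R i1
  obtain ⟨t, ht, htd⟩ := ex_a R i2
  obtain ⟨b, hb, w, hw, hwd⟩ := ex_b R
  obtain ⟨hrv, hrt⟩ := top_a R C i1 hr hrd
  obtain ⟨htv, htt⟩ := top_a R C i2 ht htd
  have h1 := ee_ne R C i1.c4 i2.c4 (t_ne σ) hr ht hrd hrv htv
  have f : ∀ {e : ℕ}, Top m 1 e → e = 2 * (m - 1) ∨ ((m - 1) % 2 = 1 ∧ e = m - 1) ∨ (m % 2 = 1 ∧ e = m) := by
    intro e h
    rcases h with h | ⟨h2, h⟩ | ⟨-, h2, h⟩ | ⟨h, -⟩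
    · exact Or.inl h
    · exact Or.inr (Or.inl ⟨Nat.odd_iff.1 h2, h⟩)
    · exact Or.inr (Or.inr ⟨Nat.odd_iff.1 h2, h⟩)
    · norm_num at h
  have hwt : wO (Nat.card F) w + 2 ≤ m := by
    rcases C.wt hw.prime (c4_odd hb.c4 hw).2 hwd with h | ⟨hwv, hwt⟩
    · exact h
    · exfalso
      have h2 := ee_ne R C i1.c4 hb.c4 (i1.ne hb) hr hw hrd hrv hwv
      have h3 := ee_ne R C i2.c4 hb.c4 (i2.ne hb) ht hw htd htv hwv
      have h4 := f hrt
      have h5 := f htt
      have h6 := f hwt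
      omega
  have h4 := f hrt
  have h5 := f htt
  rcases h4 with h4 | h4
  · exact plus_core R C i1 i2 hb hr ht hw hrv htv h4 (by omega) hwt
  · rcases h5 with h5 | h5
    · exact plus_core R C i2 i1 hb ht hr hw htv hrv h5 (by omega) hwt
    · omega

/-- **Row `PΩ⁺`** -/
theorem row_oplus {σ : Bool} {p k m u : ℕ} {S : Type u} [Group S] [Finite S] (R : RowS σ p k S) (hg : IsNamed (.oplus m u) S) :
    False := by
  obtain ⟨F, _, _, hF, ⟨e⟩⟩ := hg.real
  exact plus_false R (ctx_plus (F := F) hg.cond.1 e)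



end plus

section minus

variable {σ : Bool} {p k : ℕ} {S : Type u} [Group S] {F : Type} [Field F] [Finite F] {m : ℕ}

/-- `v` odd, `m` even: the classes `2 (m - 1)`, `m - 1` are adjacent to 2 -/
theorem minus_no (R : RowS σ p k S) (C : Ctx S F m (-1)) (hmo : (m - 1) % 2 = 1) (hvo : Nat.card F % 2 = 1)
    {a x : ℕ} (ha : IsT σ a) (hx : Prim (p ^ k) a x) (hxv : ¬ x ∣ Nat.card F)
    (hxc : ee (Nat.card F) x = 2 * (m - 1) ∨ ee (Nat.card F) x = m - 1) : False := by
  have hm := C.hm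
  obtain ⟨hxo, hx2⟩ := c4_odd ha.c4 hx
  refine nadj_two R ha hx ?_
  have hco : Nat.Coprime 4 x := by
    have : Nat.Coprime (2 ^ 2) x := Nat.Coprime.pow_left 2 (Nat.coprime_two_left.2 hxo)
    simpa using this
  have hA : Nat.card F + 1 ∣ Nat.card F ^ (m - 1) + 1 := by
    have := Odd.nat_add_dvd_pow_add_pow (Nat.card F) 1 (Nat.odd_iff.2 hmo)
    rwa [one_pow] at this
  have hB : Nat.card F - 1 ∣ Nat.card F ^ (m - 1) - 1 := by
    have := Nat.sub_dvd_pow_sub_pow (Nat.card F) 1 (m - 1)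
    rwa [one_pow] at this
  have h4 : 4 ∣ Nat.card F + 1 ∨ 4 ∣ Nat.card F - 1 := by omega
  rcases hxc with hxc | hxc
  · have hX := dvd_of_even hx.prime hxv hxc
    rcases h4 with h4 | h4
    · exact C.two_tor (Or.inr rfl) (elt_tor_minus (by omega) (hco.mul_dvd_of_dvd_of_dvd (h4.trans hA) hX))
    · exact C.two_blk (ε := -1) (ε' := 1) (by norm_num) hxo (elt_tor_minus (by omega) hX) (elt_hyp h4)
  · have hX := dvd_of_odd (F := F) hxc
    rcases h4 with h4 | h4
    · exact C.two_blk (ε := 1) (ε' := -1) (by norm_num) hxo (elt_tor_plus (by omega) hX) (elt_ell h4)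
    · exact C.two_tor (Or.inl rfl) (elt_tor_plus (by omega) (hco.mul_dvd_of_dvd_of_dvd (h4.trans hB) hX))

/-- `m` odd, `v ≠ 3` -/
theorem minus_core1 (R : RowS σ p k S) (C : Ctx S F m (-1)) (hmo : m % 2 = 1) (hv3 : Nat.card F ≠ 3)
    {a a' b x y w : ℕ} (ha : IsT σ a)
    (ha' : IsT σ a') (hb : IsB σ b) (hx : Prim (p ^ k) a x) (hy : Prim (p ^ k) a' y)
    (hw : Prim (p ^ k) b w) (hxv : ¬ x ∣ Nat.card F) (hyv : ¬ y ∣ Nat.card F)
    (hxc : ee (Nat.card F) x = 2 * m) (hyc : ee (Nat.card F) y = 2 * (m - 1))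
    (hwt : wO (Nat.card F) w + 2 ≤ m) : False := by
  have hm := C.hm
  obtain ⟨hxo, hx2⟩ := c4_odd ha.c4 hx
  obtain ⟨hyo, hy2⟩ := c4_odd ha'.c4 hy
  have hX := dvd_of_even hx.prime hxv hxc
  have hY := dvd_of_even hy.prime hyv hyc
  obtain ⟨s, hs, hs2, hsv⟩ := exists_odd_prime (v := Nat.card F) (Finite.one_lt_card) hv3
  have hso := hs.odd_of_ne_two hs2
  obtain ⟨-, -, hes⟩ := one_of_dvd (F := F) hs hs2 (sv2 hsv)
  rcases hsv with h | h
  · have hne : x ≠ s := by
      rintro rfl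
      omega
    have hco := (Nat.coprime_primes hx.prime hs).2 hne
    refine clash_s R C ha hb hx hw hwt hs hs2 (Or.inl h) (C.of_odd (hxo.mul hso) (elt_tor_minus (by omega)
      (hco.mul_dvd_of_dvd_of_dvd hX ?_)))
    have h2 := Odd.nat_add_dvd_pow_add_pow (Nat.card F) 1 (Nat.odd_iff.2 hmo)
    rw [one_pow] at h2
    exact h.trans h2
  · have hne : y ≠ s := by
      rintro rfl
      omega
    have hco := (Nat.coprime_primes hy.prime hs).2 hne
    exact clash_s R C ha' hb hy hw hwt hs hs2 (Or.inr h)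
      (C.blk (ε := -1) (ε' := 1) (by norm_num) hyo hso hco (elt_tor_minus (by omega) hY) (elt_hyp h))

theorem NN_dvd (R : RowS σ p k S) {a : ℕ} (ha : IsT σ a) (hord : Nat.card S ∣ ordM (Nat.card F) m) :
    NN (p ^ k) a ∣ ordM (Nat.card F) m := by
  obtain ⟨g, hg⟩ := (R.top a ha).elt ha.c4
  rw [← hg]
  exact (orderOf_dvd_natCard g).trans hord

/-- all the primes of `NN q a` in the class `c` -/
theorem allC (R : RowS σ p k S) (C : Ctx S F m (-1)) {a c : ℕ} (ha : IsT σ a)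
    (h : ∀ x, Prim (p ^ k) a x → x ∣ Nat.card S → ¬ x ∣ Nat.card F → Top m (-1) (ee (Nat.card F) x) →
      ee (Nat.card F) x = c) : AllC (Nat.card F) (NN (p ^ k) a) c := by
  intro r hr hrd
  have h1 : Prim (p ^ k) a r := H627.E7.prim_of_dvd_NN ha.c4 (two_le R) hr hrd
  have h2 := (R.top a ha).dvd r h1
  obtain ⟨h3, h4⟩ := top_a R C ha h1 h2
  exact ⟨(c4_odd ha.c4 h1).2, h3, h r h1 h2 h3 h4⟩

/-- **The size argument**: an element of order `X w`, `NN q t1 ∣ X`, `NN q t2 ∣ Y` -/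
theorem size_false (R : RowS σ p k S) {X Y w α β : ℕ} (h1 : NN (p ^ k) (t1 σ) ∣ X)
    (h2 : ∃ g : S, orderOf g = X * w) (h3 : NN (p ^ k) (t2 σ) ∣ Y) (hX : 0 < X)
    (hα : 1 ≤ α) (hαw : α ≤ 3 * w) (h : |(α : ℤ) * X - β * Y| ≤ 2) : False := by
  obtain ⟨g, hg⟩ := h2
  have hi := isT_t1 σ
  have hge := NN_ge hi.c4 (three_le R)
  have h5 : 3 ^ 6 ≤ (p ^ k) ^ 6 := Nat.pow_le_pow_left (three_le R) 6
  obtain ⟨r, hr, hrd⟩ := Nat.exists_prime_and_dvd (n := NN (p ^ k) (t1 σ)) (by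
    intro h6
    rw [h6] at hge
    norm_num at h5
    omega)
  have hrp := H627.E7.prim_of_dvd_NN hi.c4 (two_le R) hr hrd
  have h4 := R.tor _ hi.c4 g r hrp (by rw [hg]; exact (hrd.trans h1).mul_right _)
  rw [hg] at h4
  exact num_final (three_le R) R.hs h1 h4 h3 hX hα hαw h

/-- `m` odd, `v = 3` -/
theorem minus_three (R : RowS σ p k S) (C : Ctx S F m (-1)) (hmo : m % 2 = 1)
    (hv3 : Nat.card F = 3) (hord : Nat.card S ∣ ordM (Nat.card F) m)
    (h : (AllC (Nat.card F) (NN (p ^ k) (t1 σ)) (2 * m) ∧ AllC (Nat.card F) (NN (p ^ k) (t2 σ)) (2 * (m - 1))) ∨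
      (AllC (Nat.card F) (NN (p ^ k) (t2 σ)) (2 * m) ∧ AllC (Nat.card F) (NN (p ^ k) (t1 σ)) (2 * (m - 1)))) : False := by
  have hm := C.hm
  obtain ⟨j, hj⟩ : ∃ j, m - 1 = 2 * j := ⟨(m - 1) / 2, by omega⟩
  have h8 : 3 ^ (m - 1) % 8 = 1 := by
    rw [hj, pow_mul]
    simp [Nat.pow_mod]
  have hmm : 3 ^ m = 3 * 3 ^ (m - 1) := by
    rw [← pow_succ']
    congr 1
    omega
  obtain ⟨X, hX⟩ : ∃ X, 3 ^ m + 1 = 4 * X := ⟨(3 ^ m + 1) / 4, by omega⟩
  obtain ⟨Y, hY⟩ : ∃ Y, 3 ^ (m - 1) + 1 = 2 * Y := ⟨(3 ^ (m - 1) + 1) / 2, by omega⟩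
  have hXo : X % 2 = 1 := by omega
  have hYo : Y % 2 = 1 := by omega
  have eX : ∃ g : S, orderOf g = X :=
    C.of_odd (Nat.odd_iff.2 hXo) (elt_tor_minus (by omega) (by rw [hv3, hX]; exact Dvd.intro_left _ rfl))
  have eY : ∃ g : S, orderOf g = Y :=
    C.of_odd' (Or.inr rfl) (Nat.odd_iff.2 hYo) (elt_tor_minus (by omega) (by rw [hv3, hY]; exact Dvd.intro_left _ rfl))
  have key : ∀ {N : ℕ}, AllC (Nat.card F) N (2 * m) → N ∣ ordM (Nat.card F) m → N ∣ X := by
    intro N hN hd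
    have h1 := hN.dvd_top card_ge_one hm hd
    rw [hv3, hX] at h1
    refine Nat.Coprime.dvd_of_dvd_mul_left ?_ h1
    exact hN.cop fun r hr hr2 _ _ h4 => hr2 ((Nat.prime_dvd_prime_iff_eq hr Nat.prime_two).1
      (hr.dvd_of_dvd_pow (show r ∣ 2 ^ 2 by simpa using h4)))
  have key' : ∀ {N : ℕ}, AllC (Nat.card F) N (2 * (m - 1)) → N ∣ ordM (Nat.card F) m → N ∣ Y := by
    intro N hN hd
    have h1 := hN.dvd_plus card_ge_one hm hd
    rw [hv3, hY] at h1
    refine Nat.Coprime.dvd_of_dvd_mul_left ?_ h1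
    exact hN.cop fun r hr hr2 _ _ h4 => hr2 ((Nat.prime_dvd_prime_iff_eq hr Nat.prime_two).1 h4)
  have hXp : 0 < X := by omega
  have hYp : 0 < Y := by omega
  have hrel : (3 : ℤ) * Y - 2 * X = 1 := by omega
  rcases h with ⟨h1, h2⟩ | ⟨h1, h2⟩
  · refine size_false R (X := X) (Y := Y) (w := 1) (α := 2) (β := 3) (key h1 (NN_dvd R (isT_t1 σ) hord))
      (by simpa using eX) (key' h2 (NN_dvd R (isT_t2 σ) hord)) hXp (by norm_num) (by norm_num) ?_
    push_cast
    rw [show (2 : ℤ) * X - 3 * Y = -1 by linarith]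
    norm_num
  · refine size_false R (X := Y) (Y := X) (w := 1) (α := 3) (β := 2) (key' h2 (NN_dvd R (isT_t1 σ) hord))
      (by simpa using eY) (key h1 (NN_dvd R (isT_t2 σ) hord)) hYp (by norm_num) (by norm_num) ?_
    push_cast
    rw [show (3 : ℤ) * Y - 2 * X = 1 by linarith]
    norm_num

/-- `m` even, `v` even -/
theorem minus_even (R : RowS σ p k S) (C : Ctx S F m (-1)) (hmo : (m - 1) % 2 = 1)
    (hve : Nat.card F % 2 = 0) (hord : Nat.card S ∣ ordM (Nat.card F) m)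
    (h : (AllC (Nat.card F) (NN (p ^ k) (t1 σ)) (2 * (m - 1)) ∧ AllC (Nat.card F) (NN (p ^ k) (t2 σ)) (m - 1)) ∨
      (AllC (Nat.card F) (NN (p ^ k) (t2 σ)) (2 * (m - 1)) ∧ AllC (Nat.card F) (NN (p ^ k) (t1 σ)) (m - 1))) : False := by
  have hm := C.hm
  have hv2 : 2 ≤ Nat.card F := Finite.one_lt_card
  obtain ⟨A, hA⟩ : Nat.card F + 1 ∣ Nat.card F ^ (m - 1) + 1 := by
    have := Odd.nat_add_dvd_pow_add_pow (Nat.card F) 1 (Nat.odd_iff.2 hmo)
    rwa [one_pow] at this
  obtain ⟨B, hB⟩ : Nat.card F - 1 ∣ Nat.card F ^ (m - 1) - 1 := by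
    have := Nat.sub_dvd_pow_sub_pow (Nat.card F) 1 (m - 1)
    rwa [one_pow] at this
  have hvm : Nat.card F ^ (m - 1) % 2 = 0 := by
    rw [Nat.pow_mod, hve, Nat.zero_pow (by omega)]
  have hvm2 : 2 ≤ Nat.card F ^ (m - 1) := le_trans hv2 (Nat.le_self_pow (by omega) _)
  -- the two elements
  have coA : Nat.Coprime (Nat.card F ^ (m - 1) + 1) (Nat.card F - 1) := by
    rw [Nat.coprime_iff_gcd_eq_one]
    have h1 : Nat.gcd (Nat.card F ^ (m - 1) + 1) (Nat.card F - 1) ∣ 2 := by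
      have h2 := Nat.gcd_dvd_left (Nat.card F ^ (m - 1) + 1) (Nat.card F - 1)
      have h3 : Nat.gcd (Nat.card F ^ (m - 1) + 1) (Nat.card F - 1) ∣ Nat.card F ^ (m - 1) - 1 :=
        (Nat.gcd_dvd_right _ _).trans (hB ▸ Dvd.intro _ rfl)
      have h4 := Nat.dvd_sub h2 h3
      rwa [show Nat.card F ^ (m - 1) + 1 - (Nat.card F ^ (m - 1) - 1) = 2 by omega] at h4
    rcases (Nat.dvd_prime Nat.prime_two).1 h1 with h2 | h2
    · exact h2
    · exfalso
      have h3 := Nat.gcd_dvd_right (Nat.card F ^ (m - 1) + 1) (Nat.card F - 1)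
      rw [h2] at h3
      omega
  have coB : Nat.Coprime (Nat.card F ^ (m - 1) - 1) (Nat.card F + 1) := by
    rw [Nat.coprime_iff_gcd_eq_one]
    have h1 : Nat.gcd (Nat.card F ^ (m - 1) - 1) (Nat.card F + 1) ∣ 2 := by
      have h2 := Nat.gcd_dvd_left (Nat.card F ^ (m - 1) - 1) (Nat.card F + 1)
      have h3 : Nat.gcd (Nat.card F ^ (m - 1) - 1) (Nat.card F + 1) ∣ Nat.card F ^ (m - 1) + 1 :=
        (Nat.gcd_dvd_right _ _).trans (hA ▸ Dvd.intro _ rfl)
      have h4 := Nat.dvd_sub h3 h2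
      rwa [show Nat.card F ^ (m - 1) + 1 - (Nat.card F ^ (m - 1) - 1) = 2 by omega] at h4
    rcases (Nat.dvd_prime Nat.prime_two).1 h1 with h2 | h2
    · exact h2
    · exfalso
      have h3 := Nat.gcd_dvd_right (Nat.card F ^ (m - 1) - 1) (Nat.card F + 1)
      rw [h2] at h3
      omega
  have eA : ∃ g : S, orderOf g = (Nat.card F ^ (m - 1) + 1) * (Nat.card F - 1) :=
    C.blk (ε := -1) (ε' := 1) (by norm_num) (Nat.odd_iff.2 (by omega)) (Nat.odd_iff.2 (by omega)) coA
      (elt_tor_minus (by omega) dvd_rfl) (elt_hyp dvd_rfl)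
  have eB : ∃ g : S, orderOf g = (Nat.card F ^ (m - 1) - 1) * (Nat.card F + 1) :=
    C.blk (ε := 1) (ε' := -1) (by norm_num) (Nat.odd_iff.2 (by omega)) (Nat.odd_iff.2 (by omega)) coB
      (elt_tor_plus (by omega) dvd_rfl) (elt_ell dvd_rfl)
  have keyA : ∀ {N : ℕ}, AllC (Nat.card F) N (2 * (m - 1)) → N ∣ ordM (Nat.card F) m → N ∣ A := by
    intro N hN hd
    have h1 := hN.dvd_plus card_ge_one hm hd
    rw [hA] at h1
    exact (hN.cop_small card_ge_one (by omega)).1.dvd_of_dvd_mul_left h1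
  have keyB : ∀ {N : ℕ}, AllC (Nat.card F) N (m - 1) → N ∣ ordM (Nat.card F) m → N ∣ B := by
    intro N hN hd
    have h1 := hN.dvd_minus card_ge_one hm hmo hd
    rw [hB] at h1
    exact (hN.cop_small card_ge_one (by omega)).2.dvd_of_dvd_mul_left h1
  have hAp : 0 < A := by
    rcases Nat.eq_zero_or_pos A with h0 | h0
    · rw [h0, mul_zero] at hA
      omega
    · exact h0
  have hBp : 0 < B := by
    rcases Nat.eq_zero_or_pos B with h0 | h0
    · rw [h0, mul_zero] at hB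
      omega
    · exact h0
  have hrel : ((Nat.card F + 1 : ℕ) : ℤ) * A - ((Nat.card F - 1 : ℕ) : ℤ) * B = 2 := by
    have e1 : ((Nat.card F + 1 : ℕ) : ℤ) * A = ((Nat.card F ^ (m - 1) + 1 : ℕ) : ℤ) := by
      rw [hA]
      push_cast
      ring
    have e2 : ((Nat.card F - 1 : ℕ) : ℤ) * B = ((Nat.card F ^ (m - 1) - 1 : ℕ) : ℤ) := by
      rw [hB, Nat.cast_mul]
    rw [e1, e2]
    omega
  have hw : 1 ≤ Nat.card F - 1 := by omega
  have hwn : Nat.card F + 1 ≤ (Nat.card F + 1) * (Nat.card F - 1) := Nat.le_mul_of_pos_right _ hw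
  rcases h with ⟨h1, h2⟩ | ⟨h1, h2⟩
  · refine size_false R (X := A) (Y := B) (w := (Nat.card F + 1) * (Nat.card F - 1)) (α := Nat.card F + 1)
      (β := Nat.card F - 1) (keyA h1 (NN_dvd R (isT_t1 σ) hord)) ?_ (keyB h2 (NN_dvd R (isT_t2 σ) hord))
      hAp (by omega) (by omega) ?_
    · rw [hA] at eA
      rw [show A * ((Nat.card F + 1) * (Nat.card F - 1)) = (Nat.card F + 1) * A * (Nat.card F - 1) by ring]
      exact eA
    · rw [hrel]
      norm_num
  · refine size_false R (X := B) (Y := A) (w := (Nat.card F + 1) * (Nat.card F - 1)) (α := Nat.card F - 1)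
      (β := Nat.card F + 1) (keyB h2 (NN_dvd R (isT_t1 σ) hord)) ?_ (keyA h1 (NN_dvd R (isT_t2 σ) hord))
      hBp (by omega) (by omega) ?_
    · rw [hB] at eB
      rw [show B * ((Nat.card F + 1) * (Nat.card F - 1)) = (Nat.card F - 1) * B * (Nat.card F + 1) by ring]
      exact eB
    · rw [show ((Nat.card F - 1 : ℕ) : ℤ) * B - ((Nat.card F + 1 : ℕ) : ℤ) * A = -2 by linarith]
      norm_num

theorem minus_false (R : RowS σ p k S) (C : Ctx S F m (-1)) (hord : Nat.card S ∣ ordM (Nat.card F) m) : False := by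
  have hm := C.hm
  have i1 := isT_t1 σ
  have i2 := isT_t2 σ
  obtain ⟨r, hr, hrd⟩ := ex_a R i1
  obtain ⟨t, ht, htd⟩ := ex_a R i2
  obtain ⟨b, hb, w, hw, hwd⟩ := ex_b R
  obtain ⟨hrv, hrt⟩ := top_a R C i1 hr hrd
  obtain ⟨htv, htt⟩ := top_a R C i2 ht htd
  have h1 := ee_ne R C i1.c4 i2.c4 (t_ne σ) hr ht hrd hrv htv
  have f : ∀ {e : ℕ}, Top m (-1) e → e = 2 * (m - 1) ∨ ((m - 1) % 2 = 1 ∧ e = m - 1) ∨ e = 2 * m := by
    intro e h
    rcases h with h | ⟨h2, h⟩ | ⟨h, -, -⟩ | ⟨-, h⟩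
    · exact Or.inl h
    · exact Or.inr (Or.inl ⟨Nat.odd_iff.1 h2, h⟩)
    · norm_num at h
    · exact Or.inr (Or.inr h)
  have h4 := f hrt
  have h5 := f htt
  -- the classes of all the primes of class 14, 18
  have g14 : ∀ x, Prim (p ^ k) (t1 σ) x → x ∣ Nat.card S → ¬ x ∣ Nat.card F →
      ee (Nat.card F) x ≠ ee (Nat.card F) t := fun x hx hxd hxv =>
    ee_ne R C i1.c4 i2.c4 (t_ne σ) hx ht hxd hxv htv
  have g18 : ∀ x, Prim (p ^ k) (t2 σ) x → x ∣ Nat.card S → ¬ x ∣ Nat.card F →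
      ee (Nat.card F) x ≠ ee (Nat.card F) r := fun x hx hxd hxv =>
    ee_ne R C i2.c4 i1.c4 (t_ne σ).symm hx hr hxd hxv hrv
  rcases Nat.mod_two_eq_zero_or_one m with hm2 | hm2
  · have hmo : (m - 1) % 2 = 1 := by omega
    rcases Nat.mod_two_eq_zero_or_one (Nat.card F) with hv2 | hv2
    · -- `m` even, `v` even
      obtain ⟨s, hs, hs2, hsv⟩ := exists_odd_prime (v := Nat.card F) (Finite.one_lt_card) (by omega)
      have q1 : ee (Nat.card F) r = 2 * m → ee (Nat.card F) t = 2 * (m - 1) ∨ ee (Nat.card F) t = m - 1 := by omega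
      have q2 : ¬ ee (Nat.card F) r = 2 * m → ee (Nat.card F) r = 2 * (m - 1) ∨ ee (Nat.card F) r = m - 1 := by omega
      have hwc : ¬ w ∣ Nat.card F ∧ ee (Nat.card F) w = 2 * m := by
        by_contra hcon
        -- `s` is adjacent to `w`
        have hsw : (∃ g : S, orderOf g = w * s) ∨ wO (Nat.card F) w + 2 ≤ m := by
          rcases C.wt hw.prime (c4_odd hb.c4 hw).2 hwd with h | ⟨hwv, hwt⟩
          · exact Or.inr h
          · left
            have h6 := f hwt
            exact minus_adj_s C hmo hw.prime (c4_odd hb.c4 hw).2 hwv (by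
              rcases h6 with h6 | h6 | h6
              · exact Or.inl h6
              · exact Or.inr h6.2
              · exact absurd ⟨hwv, h6⟩ hcon) hs hs2 hsv
        have fin : ∀ {a x : ℕ}, IsT σ a → Prim (p ^ k) a x → ¬ x ∣ Nat.card F →
            (ee (Nat.card F) x = 2 * (m - 1) ∨ ee (Nat.card F) x = m - 1) → False := by
          intro a x ha hx hxv hxc
          have h7 := minus_adj_s C hmo hx.prime (c4_odd ha.c4 hx).2 hxv hxc hs hs2 hsv
          rcases hsw with h8 | h8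
          · exact clash R ha hb hx hw hs hs2 h7 h8
          · exact clash_s R C ha hb hx hw h8 hs hs2 hsv h7
        by_cases h6 : ee (Nat.card F) r = 2 * m
        · exact fin i2 ht htv (q1 h6)
        · exact fin i1 hr hrv (q2 h6)
      obtain ⟨hwv, hwc⟩ := hwc
      have k14 : ∀ x, Prim (p ^ k) (t1 σ) x → x ∣ Nat.card S → ¬ x ∣ Nat.card F → ee (Nat.card F) x ≠ 2 * m :=
        fun x hx hxd hxv => by
          rw [← hwc]
          exact ee_ne R C i1.c4 hb.c4 (i1.ne hb) hx hw hxd hxv hwv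
      have k18 : ∀ x, Prim (p ^ k) (t2 σ) x → x ∣ Nat.card S → ¬ x ∣ Nat.card F → ee (Nat.card F) x ≠ 2 * m :=
        fun x hx hxd hxv => by
          rw [← hwc]
          exact ee_ne R C i2.c4 hb.c4 (i2.ne hb) hx hw hxd hxv hwv
      have hr' := k14 r hr hrd hrv
      have ht' := k18 t ht htd htv
      refine minus_even R C hmo hv2 hord ?_
      rcases h4 with h4 | h4
      · left
        exact ⟨allC R C i1 fun x hx hxd hxv hxt => by
            have := g14 x hx hxd hxv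
            have := k14 x hx hxd hxv
            have := f hxt
            omega,
          allC R C i2 fun x hx hxd hxv hxt => by
            have := g18 x hx hxd hxv
            have := k18 x hx hxd hxv
            have := f hxt
            omega⟩
      · right
        exact ⟨allC R C i2 fun x hx hxd hxv hxt => by
            have := g18 x hx hxd hxv
            have := k18 x hx hxd hxv
            have := f hxt
            omega,
          allC R C i1 fun x hx hxd hxv hxt => by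
            have := g14 x hx hxd hxv
            have := k14 x hx hxd hxv
            have := f hxt
            omega⟩
    · -- `m` even, `v` odd
      by_cases h6 : ee (Nat.card F) r = 2 * m
      · exact minus_no R C hmo hv2 i2 ht htv (by omega)
      · exact minus_no R C hmo hv2 i1 hr hrv (by omega)
  · -- `m` odd
    by_cases hv3 : Nat.card F = 3
    · refine minus_three R C hm2 hv3 hord ?_
      by_cases h6 : ee (Nat.card F) r = 2 * m
      · left
        exact ⟨allC R C i1 fun x hx hxd hxv hxt => by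
            have := g14 x hx hxd hxv
            have := f hxt
            omega,
          allC R C i2 fun x hx hxd hxv hxt => by
            have := g18 x hx hxd hxv
            have := f hxt
            omega⟩
      · right
        exact ⟨allC R C i2 fun x hx hxd hxv hxt => by
            have := g18 x hx hxd hxv
            have := f hxt
            omega,
          allC R C i1 fun x hx hxd hxv hxt => by
            have := g14 x hx hxd hxv
            have := f hxt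
            omega⟩
    · have hwt : wO (Nat.card F) w + 2 ≤ m := by
        rcases C.wt hw.prime (c4_odd hb.c4 hw).2 hwd with h | ⟨hwv, hwt⟩
        · exact h
        · exfalso
          have h2 := ee_ne R C i1.c4 hb.c4 (i1.ne hb) hr hw hrd hrv hwv
          have h3 := ee_ne R C i2.c4 hb.c4 (i2.ne hb) ht hw htd htv hwv
          have h6 := f hwt
          omega
      by_cases h6 : ee (Nat.card F) r = 2 * m
      · exact minus_core1 R C hm2 hv3 i1 i2 hb hr ht hw hrv htv h6 (by omega) hwt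
      · exact minus_core1 R C hm2 hv3 i2 i1 hb ht hr hw htv hrv (by omega) (by omega) hwt

/-- **Row `PΩ⁻`** -/
theorem row_ominus {σ : Bool} {p k m u : ℕ} {S : Type u} [Group S] [Finite S] (R : RowS σ p k S) (hg : IsNamed (.ominus m u) S) :
    False := by
  obtain ⟨F, _, _, a, b, hF, hab, ⟨e⟩⟩ := hg.real
  have hm := hg.cond.1
  refine minus_false R (ctx_minus (F := F) hm hab e) ?_
  rw [Nat.card_congr e.toEquiv, ordM, Nat.card_eq_fintype_card (α := F), ← Cfsg.Agent.S0294.result (F := F) rfl m hm a b hab]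
  exact Dvd.intro_left _ rfl



end minus

end Cfsg.Agent.R2.Spec.X1.E7
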