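import Cfsg.Agent.R2.Spec.X1.E7.Def
import Cfsg.Agent.H706.ESeven.Num

/-!
# `E₇(q)`, `q` odd, rows `PΩ±`: arithmetic (helper13, S3435; after helper706)
-/

set_option autoImplicit false

namespace Cfsg.Agent.R2.Spec.X1.E7

open Cfsg.Agent.H436 Cfsg.Agent.H962.E7 Cfsg.Agent.H334.E7.Lay

/-- `Φ₁₄`, `Φ₁₈` -/
theorem core_add {q X Y e : ℤ} (hq : 9 ≤ q) (hX : 1 ≤ X) (he : |e| ≤ 42)
    (h : X * (q ^ 6 - q ^ 5 + q ^ 4 - q ^ 3 + q ^ 2 - q + 1) - Y * (q ^ 6 - q ^ 3 + 1) = e) : q ^ 2 ≤ X := by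
  obtain ⟨he1, he2⟩ := abs_le.1 he
  set c := X - Y with hc
  set D := q ^ 5 - q ^ 4 - q ^ 2 + q with hD
  have hq2 : 81 ≤ q ^ 2 := by nlinarith
  have hq3 : 729 ≤ q ^ 3 := by nlinarith
  have hq4 : 6561 ≤ q ^ 4 := by nlinarith
  have hq41 : 729 * q ≤ q ^ 4 := by nlinarith
  have hD1 : 1000 ≤ D := by
    have h1 : D = q * (q - 1) * (q ^ 3 - 1) := by rw [hD]; ring
    rw [h1]
    have h2 : 72 ≤ q * (q - 1) := by nlinarith
    nlinarith
  have hP : 0 < q ^ 6 - q ^ 3 + 1 := by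
    have : q ^ 6 - q ^ 3 + 1 = q ^ 3 * (q ^ 3 - 1) + 1 := by ring
    rw [this]
    have : 0 < q ^ 3 * (q ^ 3 - 1) := by
      apply mul_pos <;> linarith
    linarith
  have h1 : c * (q ^ 6 - q ^ 3 + 1) = X * D + e := by
    rw [hc, hD, ← h]; ring
  have hc1 : 1 ≤ c := by
    by_contra hcon
    have h2 : c ≤ 0 := by omega
    have h3 : c * (q ^ 6 - q ^ 3 + 1) ≤ 0 := mul_nonpos_of_nonpos_of_nonneg h2 hP.le
    have h4 : D ≤ X * D := by nlinarith
    linarith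
  have h2 : (X - c * (q + 1)) * D = c * (q ^ 4 - q + 1) - e := by
    have : (X - c * (q + 1)) * D = X * D - c * ((q + 1) * D) := by ring
    rw [this, show X * D = c * (q ^ 6 - q ^ 3 + 1) - e by linarith, hD]
    ring
  have hR : 42 < q ^ 4 - q + 1 := by nlinarith
  have h3 : 1 ≤ X - c * (q + 1) := by
    by_contra hcon
    have h4 : X - c * (q + 1) ≤ 0 := by omega
    have h5 : (X - c * (q + 1)) * D ≤ 0 := mul_nonpos_of_nonpos_of_nonneg h4 (by linarith)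
    have h6 : q ^ 4 - q + 1 ≤ c * (q ^ 4 - q + 1) := by nlinarith
    linarith
  have h4 : q - 1 ≤ c := by
    by_contra hcon
    have h5 : c ≤ q - 2 := by omega
    have h6 : c * (q ^ 4 - q + 1) ≤ (q - 2) * (q ^ 4 - q + 1) := mul_le_mul_of_nonneg_right h5 (by linarith)
    have h7 : D ≤ (X - c * (q + 1)) * D := by nlinarith
    have h8 : D - (q - 2) * (q ^ 4 - q + 1) = q ^ 4 - 2 * q + 2 := by rw [hD]; ring
    nlinarith
  have h5 : (q - 1) * (q + 1) ≤ c * (q + 1) := mul_le_mul_of_nonneg_right h4 (by linarith)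
  nlinarith

/-- `Φ₇`, `Φ₉` -/
theorem core_sub {q X Y e : ℤ} (hq : 3 ≤ q) (hX : 1 ≤ X) (he : |e| ≤ 42)
    (h : X * (q ^ 6 + q ^ 5 + q ^ 4 + q ^ 3 + q ^ 2 + q + 1) - Y * (q ^ 6 + q ^ 3 + 1) = e) : q ^ 2 ≤ X := by
  obtain ⟨he1, he2⟩ := abs_le.1 he
  set c := Y - X with hc
  set D := q ^ 5 + q ^ 4 + q ^ 2 + q with hD
  have hq2 : 9 ≤ q ^ 2 := by nlinarith
  have hq3 : 27 ≤ q ^ 3 := by nlinarith
  have hq4 : 81 ≤ q ^ 4 := by nlinarith
  have hD1 : 81 * (q + 1) ≤ D := by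
    have h1 : D = q ^ 4 * (q + 1) + q ^ 2 + q := by rw [hD]; ring
    rw [h1]
    have : 81 * (q + 1) ≤ q ^ 4 * (q + 1) := mul_le_mul_of_nonneg_right hq4 (by linarith)
    linarith
  have hP : 0 < q ^ 6 + q ^ 3 + 1 := by positivity
  have h1 : c * (q ^ 6 + q ^ 3 + 1) = X * D - e := by
    rw [hc, hD, ← h]; ring
  have hc1 : 1 ≤ c := by
    by_contra hcon
    have h2 : c ≤ 0 := by omega
    have h3 : c * (q ^ 6 + q ^ 3 + 1) ≤ 0 := mul_nonpos_of_nonpos_of_nonneg h2 hP.le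
    have h4 : D ≤ X * D := by nlinarith
    linarith
  have h2 : (X - c * (q - 1)) * D = c * (q ^ 4 + q + 1) + e := by
    have : (X - c * (q - 1)) * D = X * D - c * ((q - 1) * D) := by ring
    rw [this, show X * D = c * (q ^ 6 + q ^ 3 + 1) + e by linarith, hD]
    ring
  have hR : 42 < q ^ 4 + q + 1 := by nlinarith
  have h3 : 1 ≤ X - c * (q - 1) := by
    by_contra hcon
    have h4 : X - c * (q - 1) ≤ 0 := by omega
    have h5 : (X - c * (q - 1)) * D ≤ 0 := mul_nonpos_of_nonpos_of_nonneg h4 (by linarith)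
    have h6 : q ^ 4 + q + 1 ≤ c * (q ^ 4 + q + 1) := by nlinarith
    linarith
  have h4 : q + 1 ≤ c := by
    by_contra hcon
    have h5 : c ≤ q := by omega
    have h6 : c * (q ^ 4 + q + 1) ≤ q * (q ^ 4 + q + 1) := mul_le_mul_of_nonneg_right h5 (by linarith)
    have h7 : D ≤ (X - c * (q - 1)) * D := by nlinarith
    have h8 : D - q * (q ^ 4 + q + 1) = q ^ 4 := by rw [hD]; ring
    linarith
  have h5 : (q + 1) * (q - 1) ≤ c * (q - 1) := mul_le_mul_of_nonneg_right h4 (by linarith)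
  nlinarith

theorem gcd_pc' {c : ℕ} (hc : c.Prime) (x : ℕ) : Nat.gcd c x = 1 ∨ (Nat.gcd c x = c ∧ c ∣ x) := by
  rcases (Nat.dvd_prime hc).1 (Nat.gcd_dvd_left c x) with h | h
  · exact Or.inl h
  · exact Or.inr ⟨h, h ▸ Nat.gcd_dvd_right c x⟩

theorem gbound_add {q : ℕ} (h : 9 ≤ q) (h4 : q % 4 = 1) :
    3 * (Nat.gcd 7 (q + 1) * Nat.gcd 3 (q + 1)) * (q + 1) < 2 * q ^ 2 := by
  rcases gcd_pc' (c := 7) (by norm_num) (q + 1) with h7 | ⟨h7, h7'⟩ <;>
    rcases gcd_pc' (c := 3) (by norm_num) (q + 1) with h3 | ⟨h3, h3'⟩ <;> rw [h7, h3]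
  · nlinarith
  · nlinarith
  · have : 13 ≤ q := by omega
    nlinarith
  · have : 41 ≤ q := by omega
    nlinarith

theorem gbound_sub {q : ℕ} (h : 3 ≤ q) (h4 : q % 4 = 3) :
    3 * (Nat.gcd 7 (q - 1) * Nat.gcd 3 (q - 1)) * (q - 1) < 2 * q ^ 2 := by
  obtain ⟨t, rfl⟩ : ∃ t, q = t + 1 := ⟨q - 1, by omega⟩
  rw [Nat.add_sub_cancel]
  rcases gcd_pc' (c := 7) (by norm_num) t with h7 | ⟨h7, h7'⟩ <;>
    rcases gcd_pc' (c := 3) (by norm_num) t with h3 | ⟨h3, h3'⟩ <;> rw [h7, h3]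
  · nlinarith
  · have : 6 ≤ t := by omega
    nlinarith
  · have : 14 ≤ t := by omega
    nlinarith
  · have : 42 ≤ t := by omega
    nlinarith

/-- the size argument, both signs -/
theorem num_final {s : Bool} {q : ℕ} (hq : 3 ≤ q) (h4 : q % 4 = md s) {X Y w α β : ℕ}
    (h1 : NN q (t1 s) ∣ X) (h2 : X * w ∣ TT q (t1 s)) (h3 : NN q (t2 s) ∣ Y) (hX : 0 < X)
    (hα : 1 ≤ α) (hαw : α ≤ 3 * w) (h : |(α : ℤ) * X - β * Y| ≤ 2) : False := by
  have hi := (isT_t1 s).c4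
  have hj := (isT_t2 s).c4
  obtain ⟨x, rfl⟩ := h1
  obtain ⟨y, rfl⟩ := h3
  have e1 := nn_mul (q := q) (by omega) hi
  have e3 := tt_mul (u := q) (by omega) hi
  rw [gcd_two h4] at e3
  have f1 := nn_gcd (q := q) (by omega) hi
  have f2 := nn_gcd (q := q) (by omega) hj
  have hNpos : 0 < NN q (t1 s) := Nat.pos_of_mul_pos_right hX
  have hxpos : 0 < x := Nat.pos_of_mul_pos_left hX
  -- `2 x w ≤ L g`
  have hT : 2 * (x * w) ∣ LL q (t1 s) * Nat.gcd (ee (t1 s)) (LL q (t1 s)) := by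
    have h5 : NN q (t1 s) * (2 * (x * w)) ∣ NN q (t1 s) * (LL q (t1 s) * Nat.gcd (ee (t1 s)) (LL q (t1 s))) := by
      rw [e1, ← e3]
      have h6 : 2 * (NN q (t1 s) * x * w) ∣ 2 * TT q (t1 s) := Nat.mul_dvd_mul_left 2 h2
      have e1 : NN q (t1 s) * (2 * (x * w)) = 2 * (NN q (t1 s) * x * w) := by ring
      rw [e1]
      exact h6
    exact Nat.dvd_of_mul_dvd_mul_left hNpos h5
  by_cases h5 : q = 5
  · -- `q = 5`
    subst h5
    have hs : s = true := by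
      cases s
      · simp [md] at h4
      · rfl
    subst hs
    have g1 : LL 5 (t1 true) * Nat.gcd (ee (t1 true)) (LL 5 (t1 true)) = 6 := by decide
    have n1 : NN 5 (t1 true) = 13021 := by norm_num [NN, t1]
    have n2 : NN 5 (t2 true) = 5167 := by norm_num [NN, t2]
    rw [g1] at hT
    have hle := Nat.le_of_dvd (by norm_num) hT
    rw [n1, n2] at h
    have hn : α * x ≤ 9 := by
      calc α * x ≤ 3 * w * x := Nat.mul_le_mul_right _ hαw
        _ = 3 * (x * w) := by ring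
        _ ≤ 9 := by omega
    have hn0 : 0 < α * x := by positivity
    have h6 : |13021 * ((α * x : ℕ) : ℤ) - 5167 * ((β * y : ℕ) : ℤ)| ≤ 2 := by
      rw [show 13021 * ((α * x : ℕ) : ℤ) - 5167 * ((β * y : ℕ) : ℤ) =
        (α : ℤ) * ((13021 * x : ℕ) : ℤ) - β * ((5167 * y : ℕ) : ℤ) by push_cast; ring]
      exact h
    generalize α * x = n at hn hn0 h6
    generalize β * y = m at h6
    rw [abs_le] at h6
    obtain ⟨h7, h8⟩ := h6
    interval_cases n <;> omega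
  · have hle := Nat.le_of_dvd (by
      have : 0 < LL q (t1 s) := by unfold LL; split_ifs <;> omega
      have : 0 < Nat.gcd (ee (t1 s)) (LL q (t1 s)) := Nat.gcd_pos_of_pos_left _ (ee_pos _)
      positivity) hT
    have hg7 : Nat.gcd (ee (t1 s)) (LL q (t1 s)) ≤ 7 := by
      cases s
      · exact Nat.gcd_le_left _ (by decide)
      · exact Nat.gcd_le_left _ (by decide)
    have hg3 : Nat.gcd (ee (t2 s)) (LL q (t2 s)) ≤ 3 := by
      cases s
      · exact Nat.gcd_le_left _ (by decide)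
      · exact Nat.gcd_le_left _ (by decide)
    obtain ⟨g7, hg7e⟩ : ∃ g7, g7 = Nat.gcd (ee (t1 s)) (LL q (t1 s)) := ⟨_, rfl⟩
    obtain ⟨g3, hg3e⟩ : ∃ g3, g3 = Nat.gcd (ee (t2 s)) (LL q (t2 s)) := ⟨_, rfl⟩
    have hg7p : 0 < g7 := hg7e ▸ Nat.gcd_pos_of_pos_left _ (ee_pos _)
    have hg3p : 0 < g3 := hg3e ▸ Nat.gcd_pos_of_pos_left _ (ee_pos _)
    rw [← hg7e] at hle hg7 f1
    rw [← hg3e] at hg3 f2
    have hG : g7 * g3 ≤ 21 := by
      calc g7 * g3 ≤ 7 * 3 := Nat.mul_le_mul hg7 hg3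
        _ = 21 := rfl
    have hmain : ((α * g3 * x : ℕ) : ℤ) * BZ q (t1 s) - ((β * g7 * y : ℕ) : ℤ) * BZ q (t2 s) =
        (g7 * g3 : ℕ) * ((α : ℤ) * (NN q (t1 s) * x : ℕ) - β * (NN q (t2 s) * y : ℕ)) := by
      rw [← f1, ← f2]
      push_cast
      ring
    have hX1 : (1 : ℤ) ≤ ((α * g3 * x : ℕ) : ℤ) := by
      have : 0 < α * g3 * x := by positivity
      exact_mod_cast this
    have hE : |(g7 * g3 : ℕ) * ((α : ℤ) * (NN q (t1 s) * x : ℕ) - β * (NN q (t2 s) * y : ℕ))| ≤ 42 := by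
      rw [abs_mul]
      have h5 : |((g7 * g3 : ℕ) : ℤ)| ≤ 21 := by
        rw [abs_of_nonneg (by positivity)]
        exact_mod_cast hG
      calc _ ≤ (21 : ℤ) * 2 := mul_le_mul h5 h (abs_nonneg _) (by norm_num)
        _ = 42 := by norm_num
    have hle' : q ^ 2 ≤ α * g3 * x := by
      cases s
      · have := core_sub (q := (q : ℤ)) (by exact_mod_cast hq) hX1 hE hmain
        exact_mod_cast this
      · have h9 : 9 ≤ q := by
          simp only [md, if_true] at h4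
          omega
        have := core_add (q := (q : ℤ)) (by exact_mod_cast h9) hX1 hE hmain
        exact_mod_cast this
    have hb : 3 * (g7 * g3) * LL q (t1 s) < 2 * q ^ 2 := by
      rw [hg7e, hg3e]
      cases s
      · simp only [md, Bool.false_eq_true, if_false] at h4
        exact gbound_sub hq h4
      · simp only [md, if_true] at h4
        exact gbound_add (by omega) h4
    have h7 : 2 * (α * g3 * x) ≤ 3 * (g7 * g3) * LL q (t1 s) := by
      calc 2 * (α * g3 * x) ≤ 2 * (3 * w * g3 * x) := by gcongr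
        _ = 3 * g3 * (2 * (x * w)) := by ring
        _ ≤ 3 * g3 * (LL q (t1 s) * g7) := by gcongr
        _ = 3 * (g7 * g3) * LL q (t1 s) := by ring
    omega

end Cfsg.Agent.R2.Spec.X1.E7
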