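import Cfsg.Agent.R2.Spec.X1.E7.Def
import Cfsg.Agent.H791.E7.OwnName

/-!
# `E₇(q)`, `q` odd: own characteristic, by exponents (helper13, S3435; after helper791, S3482)

Only the fields `pi` and `one` are used.
-/

set_option autoImplicit false

namespace Cfsg.Agent.R2.Spec.X1.E7

open Cfsg Cfsg.Agent.H436 Cfsg.Agent.H426.LieFam Cfsg.Agent.H414.LieShape Cfsg.Agent.H962.E7 Cfsg.Agent.OrdDiv
open Cfsg.Agent.H791.E7 (Good prim_pow good_of_dvd fld pow_of_dvd cop_sub' cop_add' gcd_small)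

universe u

/-! ### arithmetic -/

/-- the exponents greater than `7 k` -/
def Al (k e : ℕ) : Prop := e = 8 * k ∨ e = 9 * k ∨ e = 10 * k ∨ e = 12 * k ∨ e = 14 * k ∨ e = 18 * k

section vals

variable {k e : ℕ} (hk : 1 ≤ k) (he : 0 < e) (hA : 7 * k < e → Al k e)

include hk he hA

theorem tb {i t : ℕ} (hi : 7 ≤ i) (h : e = k * i * t) : t = 1 ∨ t = 2 := by
  unfold Al at hA
  have h0 : t ≠ 0 := by
    rintro rfl
    omega
  have h3 : t < 3 := by
    by_contra hlt
    have h1 : k * i * 3 ≤ k * i * t := Nat.mul_le_mul_left _ (by omega)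
    have h2 : k * 7 ≤ k * i := Nat.mul_le_mul_left _ hi
    omega
  omega

theorem v8 (h : k * 8 ∣ e) : e = 8 * k := by
  obtain ⟨t, ht⟩ := h
  rcases tb hk he hA (by norm_num) ht with rfl | rfl <;> unfold Al at hA <;> omega

theorem v10 (h : k * 10 ∣ e) : e = 10 * k := by
  obtain ⟨t, ht⟩ := h
  rcases tb hk he hA (by norm_num) ht with rfl | rfl <;> unfold Al at hA <;> omega

theorem v12 (h : k * 12 ∣ e) : e = 12 * k := by
  obtain ⟨t, ht⟩ := h
  rcases tb hk he hA (by norm_num) ht with rfl | rfl <;> unfold Al at hA <;> omega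

theorem v14 (h : k * 14 ∣ e) : e = 14 * k := by
  obtain ⟨t, ht⟩ := h
  rcases tb hk he hA (by norm_num) ht with rfl | rfl <;> unfold Al at hA <;> omega

theorem v18 (h : k * 18 ∣ e) : e = 18 * k := by
  obtain ⟨t, ht⟩ := h
  rcases tb hk he hA (by norm_num) ht with rfl | rfl <;> unfold Al at hA <;> omega

theorem v9 (h : k * 9 ∣ e) : e = 9 * k ∨ e = 18 * k := by
  obtain ⟨t, ht⟩ := h
  rcases tb hk he hA (by norm_num) ht with rfl | rfl <;> unfold Al at hA <;> omega

theorem v7 (h : k * 7 ∣ e) : e = 7 * k ∨ e = 14 * k := by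
  obtain ⟨t, ht⟩ := h
  rcases tb hk he hA (by norm_num) ht with rfl | rfl <;> unfold Al at hA <;> omega

end vals

theorem step {f a b x y : ℕ} (h1 : f * a = x) (h2 : f * b = y) (h : x < y) : f ≤ y - x := by
  have hab : a < b := by
    by_contra hlt
    have := Nat.mul_le_mul_left f (show b ≤ a by omega)
    omega
  obtain ⟨d, rfl⟩ : ∃ d, b = a + 1 + d := ⟨b - a - 1, by omega⟩
  have h3 : f * (a + 1 + d) = f * a + f + f * d := by ring
  omega

theorem cancel {k a b : ℕ} (hk : 1 ≤ k) (h : k * a = k * b) : a = b := Nat.eq_of_mul_eq_mul_left hk h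

theorem psl_num {k f n : ℕ} (hk : 1 ≤ k) (hf : 1 ≤ f)
    (hA : ∀ j, 2 ≤ j → j ≤ n → 7 * k < f * j → Al k (f * j))
    (hB : ∀ i ∈ C8, ∀ i' ∈ C8, i ≠ i' → (∃ j, 2 ≤ j ∧ j ≤ n ∧ k * i ∣ f * j) ∨ ∃ j, 2 ≤ j ∧ j ≤ n ∧ k * i' ∣ f * j) :
    False := by
  have e8 : (∃ j, 2 ≤ j ∧ j ≤ n ∧ k * 8 ∣ f * j) → ∃ j, 2 ≤ j ∧ j ≤ n ∧ f * j = 8 * k := fun ⟨j, h1, h2, h3⟩ =>
    ⟨j, h1, h2, v8 hk (by positivity) (hA j h1 h2) h3⟩
  have e10 : (∃ j, 2 ≤ j ∧ j ≤ n ∧ k * 10 ∣ f * j) → ∃ j, 2 ≤ j ∧ j ≤ n ∧ f * j = 10 * k := fun ⟨j, h1, h2, h3⟩ =>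
    ⟨j, h1, h2, v10 hk (by positivity) (hA j h1 h2) h3⟩
  have e12 : (∃ j, 2 ≤ j ∧ j ≤ n ∧ k * 12 ∣ f * j) → ∃ j, 2 ≤ j ∧ j ≤ n ∧ f * j = 12 * k := fun ⟨j, h1, h2, h3⟩ =>
    ⟨j, h1, h2, v12 hk (by positivity) (hA j h1 h2) h3⟩
  have hf4 : f ≤ 4 * k := by
    rcases hB 8 (by decide) 10 (by decide) (by norm_num) with h | h
    · obtain ⟨a, -, -, ha⟩ := e8 h
      rcases hB 10 (by decide) 12 (by decide) (by norm_num) with h' | h'
      · obtain ⟨b, -, -, hb⟩ := e10 h'
        have := step ha hb (by omega)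
        omega
      · obtain ⟨b, -, -, hb⟩ := e12 h'
        have := step ha hb (by omega)
        omega
    · obtain ⟨a, -, -, ha⟩ := e10 h
      rcases hB 8 (by decide) 12 (by decide) (by norm_num) with h' | h'
      · obtain ⟨b, -, -, hb⟩ := e8 h'
        have := step hb ha (by omega)
        omega
      · obtain ⟨b, -, -, hb⟩ := e12 h'
        have := step ha hb (by omega)
        omega
  by_cases h18 : ∃ j, 2 ≤ j ∧ j ≤ n ∧ k * 18 ∣ f * j
  · obtain ⟨a, ha1, ha2, ha⟩ := h18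
    have ha' := v18 hk (by positivity) (hA a ha1 ha2) ha
    obtain ⟨b, rfl⟩ : ∃ b, a = b + 1 := ⟨a - 1, by omega⟩
    have hfb : f * (b + 1) = f * b + f := by ring
    have hb2 : 2 ≤ b := by
      by_contra hlt
      have : b = 1 := by omega
      subst this
      omega
    have h1 := hA b hb2 (by omega)
    unfold Al at h1
    have hf : f = 4 * k := by omega
    rw [hf] at ha'
    have h2 : k * (4 * (b + 1)) = k * 18 := by rw [← mul_assoc, mul_comm k 4, ha', mul_comm]
    have := cancel hk h2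
    omega
  · have E := fun i hi hi' => (hB 18 (by decide) i hi hi').resolve_left h18
    obtain ⟨x8, -, -, hx8⟩ := e8 (E 8 (by decide) (by norm_num))
    obtain ⟨x10, -, -, hx10⟩ := e10 (E 10 (by decide) (by norm_num))
    have hf2 := step hx8 hx10 (by omega)
    obtain ⟨a, ha1, ha2, ha⟩ := E 14 (by decide) (by norm_num)
    have ha' := v14 hk (by positivity) (hA a ha1 ha2) ha
    obtain ⟨b, rfl⟩ : ∃ b, a = b + 1 := ⟨a - 1, by omega⟩
    have hfb : f * (b + 1) = f * b + f := by ring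
    have hb2 : 2 ≤ b := by
      by_contra hlt
      have : b = 1 := by omega
      subst this
      omega
    have h1 := hA b hb2 (by omega)
    unfold Al at h1
    have hf : f = 2 * k := by omega
    obtain ⟨j, hj1, hj2, hj⟩ := E 9 (by decide) (by norm_num)
    rcases v9 hk (by positivity) (hA j hj1 hj2) hj with h2 | h2
    · rw [hf] at h2
      have h3 : k * (2 * j) = k * 9 := by rw [← mul_assoc, mul_comm k 2, h2, mul_comm]
      have := cancel hk h3
      omega
    · rw [hf] at h2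
      have h3 : k * (2 * j) = k * 18 := by rw [← mul_assoc, mul_comm k 2, h2, mul_comm]
      have := cancel hk h3
      have h4 := hA 8 (by norm_num) (by omega)
      unfold Al at h4
      rw [hf] at h4
      omega

theorem psp_num {k f m : ℕ} (hk : 1 ≤ k) (hf : 1 ≤ f)
    (hA : ∀ j, 1 ≤ j → j ≤ m → 7 * k < 2 * (f * j) → Al k (2 * (f * j)))
    (hB : ∀ i ∈ C8, ∀ i' ∈ C8, i ≠ i' → (∃ j, 1 ≤ j ∧ j ≤ m ∧ k * i ∣ 2 * (f * j)) ∨
      ∃ j, 1 ≤ j ∧ j ≤ m ∧ k * i' ∣ 2 * (f * j)) : False := by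
  have e8 : (∃ j, 1 ≤ j ∧ j ≤ m ∧ k * 8 ∣ 2 * (f * j)) → ∃ j, f * j = 4 * k := fun ⟨j, h1, h2, h3⟩ =>
    ⟨j, by have := v8 hk (by positivity) (hA j h1 h2) h3; omega⟩
  have e10 : (∃ j, 1 ≤ j ∧ j ≤ m ∧ k * 10 ∣ 2 * (f * j)) → ∃ j, f * j = 5 * k := fun ⟨j, h1, h2, h3⟩ =>
    ⟨j, by have := v10 hk (by positivity) (hA j h1 h2) h3; omega⟩
  have e12 : (∃ j, 1 ≤ j ∧ j ≤ m ∧ k * 12 ∣ 2 * (f * j)) → ∃ j, f * j = 6 * k := fun ⟨j, h1, h2, h3⟩ =>
    ⟨j, by have := v12 hk (by positivity) (hA j h1 h2) h3; omega⟩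
  have hf4 : f ≤ 2 * k := by
    rcases hB 8 (by decide) 10 (by decide) (by norm_num) with h | h
    · obtain ⟨a, ha⟩ := e8 h
      rcases hB 10 (by decide) 12 (by decide) (by norm_num) with h' | h'
      · obtain ⟨b, hb⟩ := e10 h'
        have := step ha hb (by omega)
        omega
      · obtain ⟨b, hb⟩ := e12 h'
        have := step ha hb (by omega)
        omega
    · obtain ⟨a, ha⟩ := e10 h
      rcases hB 8 (by decide) 12 (by decide) (by norm_num) with h' | h'
      · obtain ⟨b, hb⟩ := e8 h'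
        have := step hb ha (by omega)
        omega
      · obtain ⟨b, hb⟩ := e12 h'
        have := step ha hb (by omega)
        omega
  by_cases h18 : ∃ j, 1 ≤ j ∧ j ≤ m ∧ k * 18 ∣ 2 * (f * j)
  · obtain ⟨a, ha1, ha2, ha⟩ := h18
    have ha' := v18 hk (by positivity) (hA a ha1 ha2) ha
    obtain ⟨b, rfl⟩ : ∃ b, a = b + 1 := ⟨a - 1, by omega⟩
    have hfb : f * (b + 1) = f * b + f := by ring
    have hb2 : 1 ≤ b := by
      by_contra hlt
      have : b = 0 := by omega
      subst this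
      omega
    have h1 := hA b hb2 (by omega)
    unfold Al at h1
    have hf : f = 2 * k := by omega
    rw [hf] at ha'
    have h2 : k * (4 * (b + 1)) = k * 18 := by
      have : k * (4 * (b + 1)) = 2 * (2 * k * (b + 1)) := by ring
      rw [this, ha', mul_comm]
    have := cancel hk h2
    omega
  · have E := fun i hi hi' => (hB 18 (by decide) i hi hi').resolve_left h18
    obtain ⟨x8, hx8⟩ := e8 (E 8 (by decide) (by norm_num))
    obtain ⟨x10, hx10⟩ := e10 (E 10 (by decide) (by norm_num))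
    have hf2 := step hx8 hx10 (by omega)
    obtain ⟨a, ha1, ha2, ha⟩ := E 14 (by decide) (by norm_num)
    have ha' := v14 hk (by positivity) (hA a ha1 ha2) ha
    obtain ⟨b, rfl⟩ : ∃ b, a = b + 1 := ⟨a - 1, by omega⟩
    have hfb : f * (b + 1) = f * b + f := by ring
    have hb2 : 1 ≤ b := by
      by_contra hlt
      have : b = 0 := by omega
      subst this
      omega
    have h1 := hA b hb2 (by omega)
    unfold Al at h1
    have hf : f = k := by omega
    subst hf
    obtain ⟨j, hj1, hj2, hj⟩ := E 9 (by decide) (by norm_num)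
    rcases v9 hk (by positivity) (hA j hj1 hj2) hj with h2 | h2
    · have h3 : f * (2 * j) = f * 9 := by
        have : f * (2 * j) = 2 * (f * j) := by ring
        rw [this, h2, mul_comm]
      have := cancel hk h3
      omega
    · have h3 : f * (2 * j) = f * 18 := by
        have : f * (2 * j) = 2 * (f * j) := by ring
        rw [this, h2, mul_comm]
      have := cancel hk h3
      have h4 := hA 8 (by norm_num) (by omega)
      unfold Al at h4
      omega

theorem oplus_num {k f m : ℕ} (hk : 1 ≤ k) (hf : 1 ≤ f) (hm : 4 ≤ m)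
    (hA : ∀ j, 1 ≤ j → j < m → 7 * k < 2 * (f * j) → Al k (2 * (f * j))) (hA' : 7 * k < f * m → Al k (f * m))
    (hB : ∀ i ∈ C8, ∀ i' ∈ C8, i ≠ i' → ((∃ j, 1 ≤ j ∧ j < m ∧ k * i ∣ 2 * (f * j)) ∨ k * i ∣ f * m) ∨
      ((∃ j, 1 ≤ j ∧ j < m ∧ k * i' ∣ 2 * (f * j)) ∨ k * i' ∣ f * m)) : False := by
  obtain ⟨c, rfl⟩ : ∃ c, m = c + 1 := ⟨m - 1, by omega⟩
  have hfm : f * (c + 1) = f * c + f := by ring
  have hc3 : f * 3 ≤ f * c := Nat.mul_le_mul_left _ (by omega)
  have hc9 : 2 * (f * c) ≤ 18 * k := by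
    have := hA c (by omega) (by omega)
    unfold Al at this
    omega
  have hm0 : 0 < f * (c + 1) := by positivity
  by_cases h18 : (∃ j, 1 ≤ j ∧ j < c + 1 ∧ k * 18 ∣ 2 * (f * j)) ∨ k * 18 ∣ f * (c + 1)
  · have hfc : f * c = 9 * k := by
      rcases h18 with ⟨a, ha1, ha2, ha⟩ | h
      · have ha' := v18 hk (by positivity) (hA a ha1 ha2) ha
        have : f * a ≤ f * c := Nat.mul_le_mul_left _ (by omega)
        omega
      · have := v18 hk hm0 hA' h
        omega
    obtain ⟨d, rfl⟩ : ∃ d, c = d + 1 := ⟨c - 1, by omega⟩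
    have hfd : f * (d + 1) = f * d + f := by ring
    have h1 := hA d (by omega) (by omega)
    unfold Al at h1
    have hf : f = 2 * k ∨ f = 3 * k := by omega
    rcases hf with hf | hf
    · rw [hf] at hfc
      have h2 : k * (2 * (d + 1)) = k * 9 := by rw [← mul_assoc, mul_comm k 2, hfc, mul_comm]
      have := cancel hk h2
      omega
    · rw [hf] at hfc
      have h2 : k * (3 * (d + 1)) = k * 9 := by rw [← mul_assoc, mul_comm k 3, hfc, mul_comm]
      have hd := cancel hk h2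
      have hd2 : d = 2 := by omega
      subst hd2
      rcases hB 8 (by decide) 10 (by decide) (by norm_num) with (⟨j, hj1, hj2, hj⟩ | h) | (⟨j, hj1, hj2, hj⟩ | h)
      · have h3 := v8 hk (by positivity) (hA j hj1 hj2) hj
        rw [hf] at h3
        interval_cases j <;> omega
      · have h3 := v8 hk hm0 hA' h
        rw [hf] at h3
        omega
      · have h3 := v10 hk (by positivity) (hA j hj1 hj2) hj
        rw [hf] at h3
        interval_cases j <;> omega
      · have h3 := v10 hk hm0 hA' h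
        rw [hf] at h3
        omega
  · have E := fun i hi hi' => (hB 18 (by decide) i hi hi').resolve_left h18
    have E14 : ∃ j, 1 ≤ j ∧ j < c + 1 ∧ f * j = 7 * k := by
      rcases E 14 (by decide) (by norm_num) with ⟨j, hj1, hj2, hj⟩ | h
      · have := v14 hk (by positivity) (hA j hj1 hj2) hj
        exact ⟨j, hj1, hj2, by omega⟩
      · have := v14 hk hm0 hA' h
        omega
    obtain ⟨a, ha1, ha2, ha'⟩ := E14
    have hf1 : f ≤ k := by
      rcases E 12 (by decide) (by norm_num) with ⟨j, hj1, hj2, hj⟩ | h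
      · have h3 := v12 hk (by positivity) (hA j hj1 hj2) hj
        have := step (show f * j = 6 * k by omega) ha' (by omega)
        omega
      · have h3 := v12 hk hm0 hA' h
        rcases E 10 (by decide) (by norm_num) with ⟨j, hj1, hj2, hj⟩ | h
        · have h4 := v10 hk (by positivity) (hA j hj1 hj2) hj
          rcases E 8 (by decide) (by norm_num) with ⟨j', hj1', hj2', hj'⟩ | h
          · have h5 := v8 hk (by positivity) (hA j' hj1' hj2') hj'
            have := step (show f * j' = 4 * k by omega) (show f * j = 5 * k by omega) (by omega)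
            omega
          · have := v8 hk hm0 hA' h
            omega
        · have := v10 hk hm0 hA' h
          omega
    obtain ⟨b, rfl⟩ : ∃ b, a = b + 1 := ⟨a - 1, by omega⟩
    have hfb : f * (b + 1) = f * b + f := by ring
    have hb2 : 1 ≤ b := by
      by_contra hlt
      have : b = 0 := by omega
      subst this
      omega
    have h1 := hA b hb2 (by omega)
    unfold Al at h1
    have hf : f = k := by omega
    subst hf
    have no8 : ¬ 8 < c + 1 := by
      intro h8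
      have h4 := hA 8 (by norm_num) h8
      unfold Al at h4
      omega
    rcases E 9 (by decide) (by norm_num) with ⟨j, hj1, hj2, hj⟩ | h
    · rcases v9 hk (by positivity) (hA j hj1 hj2) hj with h2 | h2
      · have h3 : f * (2 * j) = f * 9 := by
          have : f * (2 * j) = 2 * (f * j) := by ring
          rw [this, h2, mul_comm]
        have := cancel hk h3
        omega
      · have h3 : f * (2 * j) = f * 18 := by
          have : f * (2 * j) = 2 * (f * j) := by ring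
          rw [this, h2, mul_comm]
        have := cancel hk h3
        omega
    · rcases v9 hk hm0 hA' h with h2 | h2
      · have := cancel hk (show f * (c + 1) = f * 9 by rw [h2, mul_comm])
        omega
      · omega

theorem psu_num {k f n : ℕ} (hk : 1 ≤ k) (hf : 1 ≤ f) (hn : 3 ≤ n)
    (hA : ∀ j, 1 ≤ j → 2 * j + 1 ≤ n → 7 * k < 4 * (f * j) + 2 * f → Al k (4 * (f * j) + 2 * f))
    (hA' : ∀ j, 1 ≤ j → 2 * j ≤ n → 7 * k < 2 * (f * j) → Al k (2 * (f * j)))
    (hB : ∀ i ∈ C8, ∀ i' ∈ C8, i ≠ i' →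
      ((∃ j, 1 ≤ j ∧ 2 * j + 1 ≤ n ∧ k * i ∣ 4 * (f * j) + 2 * f ∧ ¬ k * i ∣ f * (2 * j + 1)) ∨
        (∃ j, 1 ≤ j ∧ 2 * j ≤ n ∧ k * i ∣ 2 * (f * j))) ∨
      ((∃ j, 1 ≤ j ∧ 2 * j + 1 ≤ n ∧ k * i' ∣ 4 * (f * j) + 2 * f ∧ ¬ k * i' ∣ f * (2 * j + 1)) ∨
        (∃ j, 1 ≤ j ∧ 2 * j ≤ n ∧ k * i' ∣ 2 * (f * j)))) : False := by
  obtain ⟨c, hc1, hc⟩ : ∃ c, 1 ≤ c ∧ (n = 2 * c + 1 ∨ n = 2 * c + 2) := ⟨(n - 1) / 2, by omega, by omega⟩
  have hM := hA c hc1 (by omega)
  have hfc1 : f * (c + 1) = f * c + f := by ring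
  have hff : f * 1 ≤ f * c := Nat.mul_le_mul_left _ hc1
  have hle : ∀ j, 2 * j + 1 ≤ n → f * j ≤ f * c := fun j hj => Nat.mul_le_mul_left _ (by omega)
  have hle' : ∀ j, 2 * j ≤ n → f * j ≤ f * (c + 1) := fun j hj => Nat.mul_le_mul_left _ (by omega)
  have hMM : 4 * (f * c) + 2 * f = 14 * k ∨ 4 * (f * c) + 2 * f = 18 * k := by
    have h14 : 14 * k ≤ 4 * (f * c) + 2 * f := by
      rcases hB 14 (by decide) 18 (by decide) (by norm_num) with
        (⟨j, hj1, hj2, hj, -⟩ | ⟨j, hj1, hj2, hj⟩) | (⟨j, hj1, hj2, hj, -⟩ | ⟨j, hj1, hj2, hj⟩)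
      · have := v14 hk (by positivity) (hA j hj1 hj2) hj
        have := hle j hj2
        omega
      · have := v14 hk (by positivity) (hA' j hj1 hj2) hj
        have := hle' j hj2
        omega
      · have := v18 hk (by positivity) (hA j hj1 hj2) hj
        have := hle j hj2
        omega
      · have := v18 hk (by positivity) (hA' j hj1 hj2) hj
        have := hle' j hj2
        omega
    unfold Al at hM
    omega
  rcases hMM with hM14 | hM18
  · -- the largest exponent is `14 k`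
    have E12 : (∃ j, 1 ≤ j ∧ 2 * j + 1 ≤ n ∧ 4 * (f * j) + 2 * f = 12 * k) ∨
        (∃ j, 1 ≤ j ∧ 2 * j ≤ n ∧ 2 * (f * j) = 12 * k) := by
      rcases hB 12 (by decide) 18 (by decide) (by norm_num) with
        (⟨j, hj1, hj2, hj, -⟩ | ⟨j, hj1, hj2, hj⟩) | (⟨j, hj1, hj2, hj, -⟩ | ⟨j, hj1, hj2, hj⟩)
      · exact Or.inl ⟨j, hj1, hj2, v12 hk (by positivity) (hA j hj1 hj2) hj⟩
      · exact Or.inr ⟨j, hj1, hj2, v12 hk (by positivity) (hA' j hj1 hj2) hj⟩
      · have := v18 hk (by positivity) (hA j hj1 hj2) hj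
        have := hle j hj2
        omega
      · have := v18 hk (by positivity) (hA' j hj1 hj2) hj
        have := hle' j hj2
        omega
    rcases Nat.lt_or_ge c 2 with hc2 | hc2
    · have : c = 1 := by omega
      subst this
      rcases E12 with ⟨j, hj1, hj2, hj⟩ | ⟨j, hj1, hj2, hj⟩
      · have : j = 1 := by omega
        subst this
        omega
      · have : j = 1 ∨ j = 2 := by omega
        rcases this with rfl | rfl <;> omega
    · obtain ⟨d, rfl⟩ : ∃ d, c = d + 1 := ⟨c - 1, by omega⟩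
      have hfd : f * (d + 1) = f * d + f := by ring
      have hfd1 : f * 1 ≤ f * d := Nat.mul_le_mul_left _ (by omega)
      have h1 := hA d (by omega) (by omega)
      unfold Al at h1
      have hcs : 4 * f = 5 * k ∨ f = k ∨ 2 * f = k := by omega
      have hM' : 2 * (f * (2 * (d + 1) + 1)) = 14 * k := by rw [← hM14]; ring
      rcases hcs with h | h | h
      · have h2 : k * (5 * (2 * (d + 1) + 1)) = k * 28 := by
          have : k * (5 * (2 * (d + 1) + 1)) = 5 * k * (2 * (d + 1) + 1) := by ring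
          rw [this, ← h]
          have : 4 * f * (2 * (d + 1) + 1) = 2 * (2 * (f * (2 * (d + 1) + 1))) := by ring
          rw [this, hM']
          ring
        have := cancel hk h2
        omega
      · subst h
        have h2 : f * (2 * (2 * (d + 1) + 1)) = f * 14 := by
          have : f * (2 * (2 * (d + 1) + 1)) = 2 * (f * (2 * (d + 1) + 1)) := by ring
          rw [this, hM', mul_comm]
        have hd := cancel hk h2
        have hd2 : d = 2 := by omega
        subst hd2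
        rcases E12 with ⟨j, hj1, hj2, hj⟩ | ⟨j, hj1, hj2, hj⟩
        · have : j ≤ 3 := by omega
          interval_cases j <;> omega
        · have : j ≤ 4 := by omega
          interval_cases j <;> omega
      · have h2 : k * (2 * (d + 1) + 1) = k * 14 := by
          rw [← h]
          have : 2 * f * (2 * (d + 1) + 1) = 2 * (f * (2 * (d + 1) + 1)) := by ring
          rw [this, hM', ← h]
          ring
        have := cancel hk h2
        omega
  · -- the largest exponent is `18 k`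
    have hM' : 2 * (f * (2 * c + 1)) = 18 * k := by rw [← hM18]; ring
    rcases Nat.lt_or_ge c 2 with hc2 | hc2
    · have : c = 1 := by omega
      subst this
      rcases hB 8 (by decide) 10 (by decide) (by norm_num) with
        (⟨j, hj1, hj2, hj, -⟩ | ⟨j, hj1, hj2, hj⟩) | (⟨j, hj1, hj2, hj, -⟩ | ⟨j, hj1, hj2, hj⟩)
      · have h3 := v8 hk (by positivity) (hA j hj1 hj2) hj
        have : j = 1 := by omega
        subst this
        omega
      · have h3 := v8 hk (by positivity) (hA' j hj1 hj2) hj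
        have : j = 1 ∨ j = 2 := by omega
        rcases this with rfl | rfl <;> omega
      · have h3 := v10 hk (by positivity) (hA j hj1 hj2) hj
        have : j = 1 := by omega
        subst this
        omega
      · have h3 := v10 hk (by positivity) (hA' j hj1 hj2) hj
        have : j = 1 ∨ j = 2 := by omega
        rcases this with rfl | rfl <;> omega
    · obtain ⟨d, rfl⟩ : ∃ d, c = d + 1 := ⟨c - 1, by omega⟩
      have hfd : f * (d + 1) = f * d + f := by ring
      have hfd1 : f * 1 ≤ f * d := Nat.mul_le_mul_left _ (by omega)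
      have h1 := hA d (by omega) (by omega)
      unfold Al at h1
      have hcs : 2 * f = 3 * k ∨ f = k := by omega
      rcases hcs with h | h
      · have h2 : k * (3 * (2 * (d + 1) + 1)) = k * 18 := by
          have : k * (3 * (2 * (d + 1) + 1)) = 3 * k * (2 * (d + 1) + 1) := by ring
          rw [this, ← h]
          have : 2 * f * (2 * (d + 1) + 1) = 2 * (f * (2 * (d + 1) + 1)) := by ring
          rw [this, hM', mul_comm]
        have := cancel hk h2
        omega
      · subst h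
        have h2 : f * (2 * (2 * (d + 1) + 1)) = f * 18 := by
          have : f * (2 * (2 * (d + 1) + 1)) = 2 * (f * (2 * (d + 1) + 1)) := by ring
          rw [this, hM', mul_comm]
        have hd := cancel hk h2
        have hd3 : d = 3 := by omega
        subst hd3
        -- `n = 9` or `n = 10`: the classes 7 and 12 are missing
        have key : ∀ i, (i = 7 ∨ i = 12) →
            ¬ ((∃ j, 1 ≤ j ∧ 2 * j + 1 ≤ n ∧ f * i ∣ 4 * (f * j) + 2 * f ∧ ¬ f * i ∣ f * (2 * j + 1)) ∨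
              (∃ j, 1 ≤ j ∧ 2 * j ≤ n ∧ f * i ∣ 2 * (f * j))) := by
          rintro i hi (⟨j, hj1, hj2, g1, g2⟩ | ⟨j, hj1, hj2, g1⟩)
          · rw [Nat.mul_dvd_mul_iff_left hk] at g2
            rw [show 4 * (f * j) + 2 * f = f * (2 * (2 * j + 1)) by ring, Nat.mul_dvd_mul_iff_left hk] at g1
            have hj : j ≤ 4 := by omega
            rcases hi with rfl | rfl <;> interval_cases j <;> omega
          · rw [show 2 * (f * j) = f * (2 * j) by ring, Nat.mul_dvd_mul_iff_left hk] at g1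
            have hj : j ≤ 5 := by omega
            rcases hi with rfl | rfl <;> interval_cases j <;> omega
        rcases hB 7 (by decide) 12 (by decide) (by norm_num) with hF | hF
        · exact key 7 (Or.inl rfl) hF
        · exact key 12 (Or.inr rfl) hF

/-! ### groups -/

section own_core

variable {s : Bool} {p k : ℕ} {S : Type u} [Group S] (R : RowS s p k S)

include R

/-- **(A)** -/
theorem partA {f d N : ℕ} {l : List Fac} (h : Sh p (Nat.card S) f d N l) {x : Fac} (hx : x ∈ l)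
    (h7 : 7 * k < ex f x) : Al k (ex f x) := by
  have hk := R.hk
  obtain ⟨i, hi, t, ht⟩ : ∃ i, (i = 8 ∨ i = 10 ∨ i = 12 ∨ i = 14 ∨ i = 18) ∧ ex f x ∣ k * i := by
    refine h.all_ex R.hp (fun e => ∃ i, (i = 8 ∨ i = 10 ∨ i = 12 ∨ i = 14 ∨ i = 18) ∧ e ∣ k * i) ?_ hx (by omega)
      (fun h => R.h2 h.1)
    intro e u _ hu hd
    rcases R.pi u hu.prime hd with h1 | ⟨i, hi, h1⟩
    · exact absurd (by rw [h1]) hu.not_dvd
    · refine ⟨i, by simpa using hi, ?_⟩
      rw [← pow_mul] at h1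
      exact (hu.dvd_iff _).1 h1
  have ht0 : t ≠ 0 := by
    rintro rfl
    rw [mul_zero] at ht
    rcases hi with rfl | rfl | rfl | rfl | rfl <;> omega
  have ht2 : t ≤ 2 := by
    by_contra hlt
    have h1 : ex f x * 3 ≤ ex f x * t := Nat.mul_le_mul_left _ (by omega)
    rcases hi with rfl | rfl | rfl | rfl | rfl <;> omega
  have ht' : t = 1 ∨ t = 2 := by omega
  unfold Al
  rcases ht' with rfl | rfl <;> rcases hi with rfl | rfl | rfl | rfl | rfl <;> omega

/-- **(B)** a class contained in the order -/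
theorem partB {f d N i : ℕ} {l : List Fac} (h : Sh p (Nat.card S) f d N l) (hi : i ∈ C8) (hF : Fl S (p ^ k) i) :
    ∃ x ∈ l, Good f (k * i) x := by
  have hk := R.hk
  have h2 := R.hp.two_le
  have hi5 : 5 ≤ i ∧ i ≠ 6 := by
    simp only [C8, Finset.mem_insert, Finset.mem_singleton] at hi
    omega
  have h5 : 5 ≤ k * i := by nlinarith
  obtain ⟨u, hu⟩ := exists_prim h2 (show 3 ≤ k * i by omega) (fun h => R.h2 h.1)
  obtain ⟨x, hx, hxd, -⟩ := h.exists_ex R.hp hu (hF.dvd u (prim_pow hk hu))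
  exact ⟨x, hx, good_of_dvd (by omega) hu (by omega) hxd⟩

theorem partB2 {f d N : ℕ} {l : List Fac} (h : Sh p (Nat.card S) f d N l) (i : ℕ) (hi : i ∈ C8) (j : ℕ) (hj : j ∈ C8)
    (hij : i ≠ j) : (∃ x ∈ l, Good f (k * i) x) ∨ ∃ x ∈ l, Good f (k * j) x := by
  rcases R.one i hi j hj hij with hF | hF
  · exact Or.inl (partB R h hi hF)
  · exact Or.inr (partB R h hj hF)

theorem no_psl {f d N n : ℕ} (h : Sh p (Nat.card S) f d N (Fam.psl n).facs) : False := by
  have hmem : ∀ j, 2 ≤ j → j ≤ n → Fac.sub j ∈ (Fam.psl n).facs := fun j h1 h2 =>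
    List.mem_map.2 ⟨j - 2, List.mem_range.2 (by omega), by rw [show j - 2 + 2 = j by omega]⟩
  have hcas : ∀ {i : ℕ}, (∃ x ∈ (Fam.psl n).facs, Good f (k * i) x) → ∃ j, 2 ≤ j ∧ j ≤ n ∧ k * i ∣ f * j := by
    rintro i ⟨x, hx, hg⟩
    obtain ⟨i, hi, rfl⟩ := List.mem_map.1 hx
    rw [List.mem_range] at hi
    exact ⟨i + 2, by omega, by omega, hg⟩
  refine psl_num R.hk h.f_pos (n := n) (fun j h1 h2 => partA R h (hmem j h1 h2)) fun i hi i' hi' hii => ?_
  exact (partB2 R h i hi i' hi' hii).imp hcas hcas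

theorem no_sp {f d N m : ℕ} (h : Sh p (Nat.card S) f d N (Fam.psp m).facs) : False := by
  have hmem : ∀ j, 1 ≤ j → j ≤ m → Fac.sub (2 * j) ∈ (Fam.psp m).facs := fun j h1 h2 =>
    List.mem_map.2 ⟨j - 1, List.mem_range.2 (by omega), by rw [show j - 1 + 1 = j by omega]⟩
  have hex : ∀ j, ex f (Fac.sub (2 * j)) = 2 * (f * j) := fun j => by
    change f * (2 * j) = _
    ring
  have hcas : ∀ {i : ℕ}, (∃ x ∈ (Fam.psp m).facs, Good f (k * i) x) → ∃ j, 1 ≤ j ∧ j ≤ m ∧ k * i ∣ 2 * (f * j) := by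
    rintro i ⟨x, hx, hg⟩
    obtain ⟨i, hi, rfl⟩ := List.mem_map.1 hx
    rw [List.mem_range] at hi
    refine ⟨i + 1, by omega, by omega, ?_⟩
    rw [← hex]
    exact hg.ex
  refine psp_num R.hk h.f_pos (m := m) (fun j h1 h2 => ?_) fun i hi i' hi' hii => ?_
  · rw [← hex]
    exact partA R h (hmem j h1 h2)
  · exact (partB2 R h i hi i' hi' hii).imp hcas hcas

theorem no_oplus {f d N m : ℕ} (hm : 4 ≤ m) (h : Sh p (Nat.card S) f d N (Fam.oplus m).facs) : False := by
  have hmem : ∀ j, 1 ≤ j → j < m → Fac.sub (2 * j) ∈ (Fam.oplus m).facs := fun j h1 h2 =>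
    List.mem_cons_of_mem _ (List.mem_map.2 ⟨j - 1, List.mem_range.2 (by omega), by rw [show j - 1 + 1 = j by omega]⟩)
  have hex : ∀ j, ex f (Fac.sub (2 * j)) = 2 * (f * j) := fun j => by
    change f * (2 * j) = _
    ring
  have hcas : ∀ {i : ℕ}, (∃ x ∈ (Fam.oplus m).facs, Good f (k * i) x) →
      (∃ j, 1 ≤ j ∧ j < m ∧ k * i ∣ 2 * (f * j)) ∨ k * i ∣ f * m := by
    rintro i ⟨x, hx, hg⟩
    rcases List.mem_cons.1 hx with rfl | hx
    · exact Or.inr hg
    · obtain ⟨i, hi, rfl⟩ := List.mem_map.1 hx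
      rw [List.mem_range] at hi
      refine Or.inl ⟨i + 1, by omega, by omega, ?_⟩
      rw [← hex]
      exact hg.ex
  refine oplus_num R.hk h.f_pos hm (fun j h1 h2 => ?_) (partA R h (x := Fac.sub m) List.mem_cons_self)
    fun i hi i' hi' hii => ?_
  · rw [← hex]
    exact partA R h (hmem j h1 h2)
  · exact (partB2 R h i hi i' hi' hii).imp hcas hcas

theorem no_ominus {f d N m : ℕ} (hm : 4 ≤ m) (h : Sh p (Nat.card S) f d N (Fam.ominus m).facs) : False := by
  have hmem : ∀ j, 1 ≤ j → j < m → Fac.sub (2 * j) ∈ (Fam.ominus m).facs := fun j h1 h2 =>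
    List.mem_cons_of_mem _ (List.mem_map.2 ⟨j - 1, List.mem_range.2 (by omega), by rw [show j - 1 + 1 = j by omega]⟩)
  have hmem' : Fac.add m ∈ (Fam.ominus m).facs := List.mem_cons_self
  have hex : ∀ j, ex f (Fac.sub (2 * j)) = 2 * (f * j) := fun j => by
    change f * (2 * j) = _
    ring
  have hcas : ∀ {i : ℕ}, (∃ x ∈ (Fam.ominus m).facs, Good f (k * i) x) →
      ∃ j, 1 ≤ j ∧ j ≤ m ∧ k * i ∣ 2 * (f * j) := by
    rintro i ⟨x, hx, hg⟩
    rcases List.mem_cons.1 hx with rfl | hx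
    · exact ⟨m, by omega, le_rfl, hg.ex⟩
    · obtain ⟨i, hi, rfl⟩ := List.mem_map.1 hx
      rw [List.mem_range] at hi
      refine ⟨i + 1, by omega, by omega, ?_⟩
      rw [← hex]
      exact hg.ex
  refine psp_num R.hk h.f_pos (m := m) (fun j h1 h2 => ?_) fun i hi i' hi' hii => ?_
  · rcases Nat.lt_or_ge j m with h3 | h3
    · rw [← hex]
      exact partA R h (hmem j h1 h3)
    · have : j = m := by omega
      subst this
      exact partA R h hmem'
  · exact (partB2 R h i hi i' hi' hii).imp hcas hcas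

theorem no_psu {f d N n : ℕ} (hn : 3 ≤ n) (h : Sh p (Nat.card S) f d N (Fam.psu n).facs) : False := by
  have hmo : ∀ j, 1 ≤ j → 2 * j + 1 ≤ n → Fac.add (2 * j + 1) ∈ (Fam.psu n).facs := fun j h1 h2 => by
    refine List.mem_map.2 ⟨2 * j - 1, List.mem_range.2 (by omega), ?_⟩
    rw [if_pos (by rw [show 2 * j - 1 + 1 = 2 * j by omega]; exact even_two_mul j), show 2 * j - 1 + 2 = 2 * j + 1 by omega]
  have hme : ∀ j, 1 ≤ j → 2 * j ≤ n → Fac.sub (2 * j) ∈ (Fam.psu n).facs := fun j h1 h2 => by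
    refine List.mem_map.2 ⟨2 * j - 2, List.mem_range.2 (by omega), ?_⟩
    rw [if_neg (by rw [Nat.not_even_iff_odd]; exact ⟨j - 1, by omega⟩), show 2 * j - 2 + 2 = 2 * j by omega]
  have hex : ∀ j, ex f (Fac.sub (2 * j)) = 2 * (f * j) := fun j => by
    change f * (2 * j) = _
    ring
  have hex' : ∀ j, ex f (Fac.add (2 * j + 1)) = 4 * (f * j) + 2 * f := fun j => by
    change 2 * (f * (2 * j + 1)) = _
    ring
  have hcas : ∀ {i : ℕ}, (∃ x ∈ (Fam.psu n).facs, Good f (k * i) x) →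
      (∃ j, 1 ≤ j ∧ 2 * j + 1 ≤ n ∧ k * i ∣ 4 * (f * j) + 2 * f ∧ ¬ k * i ∣ f * (2 * j + 1)) ∨
        (∃ j, 1 ≤ j ∧ 2 * j ≤ n ∧ k * i ∣ 2 * (f * j)) := by
    rintro i ⟨x, hx, hg⟩
    obtain ⟨i', hi, rfl⟩ := List.mem_map.1 hx
    rw [List.mem_range] at hi
    rcases Nat.even_or_odd (i' + 1) with ho | ho
    · rw [if_pos ho] at hg
      obtain ⟨j, hj⟩ := ho
      rw [show i' + 2 = 2 * j + 1 by omega] at hg
      refine Or.inl ⟨j, by omega, by omega, ?_, hg.2⟩
      rw [← hex']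
      exact hg.ex
    · rw [if_neg (Nat.not_even_iff_odd.2 ho)] at hg
      obtain ⟨j, hj⟩ := ho
      rw [show i' + 2 = 2 * (j + 1) by omega] at hg
      refine Or.inr ⟨j + 1, by omega, by omega, ?_⟩
      rw [← hex]
      exact hg.ex
  refine psu_num R.hk h.f_pos hn (fun j h1 h2 => ?_) (fun j h1 h2 => ?_) fun i hi i' hi' hii => ?_
  · rw [← hex']
    exact partA R h (hmo j h1 h2)
  · rw [← hex]
    exact partA R h (hme j h1 h2)
  · exact (partB2 R h i hi i' hi' hii).imp hcas hcas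

/-- the exponents of a finite list -/
theorem fin_list {f d N : ℕ} {l : List Fac} (h : Sh p (Nat.card S) f d N l) (hpos : ∀ x ∈ l, 0 < ex f x) :
    (∃ x ∈ l, ex f x = 7 * k ∨ ex f x = 14 * k) ∧ (∃ x ∈ l, ex f x = 9 * k ∨ ex f x = 18 * k) ∧
      (∃ x ∈ l, ex f x = 14 * k ∨ ex f x = 18 * k) ∧ ∀ x ∈ l, 7 * k < ex f x → Al k (ex f x) := by
  have hk := R.hk
  have hA := fun x (hx : x ∈ l) => partA R h hx
  refine ⟨?_, ?_, ?_, hA⟩
  · rcases partB2 R h 7 (by decide) 14 (by decide) (by norm_num) with ⟨x, hx, hg⟩ | ⟨x, hx, hg⟩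
    · exact ⟨x, hx, v7 hk (hpos x hx) (hA x hx) hg.ex⟩
    · exact ⟨x, hx, Or.inr (v14 hk (hpos x hx) (hA x hx) hg.ex)⟩
  · rcases partB2 R h 9 (by decide) 18 (by decide) (by norm_num) with ⟨x, hx, hg⟩ | ⟨x, hx, hg⟩
    · exact ⟨x, hx, v9 hk (hpos x hx) (hA x hx) hg.ex⟩
    · exact ⟨x, hx, Or.inr (v18 hk (hpos x hx) (hA x hx) hg.ex)⟩
  · rcases partB2 R h 14 (by decide) 18 (by decide) (by norm_num) with ⟨x, hx, hg⟩ | ⟨x, hx, hg⟩
    · exact ⟨x, hx, Or.inl (v14 hk (hpos x hx) (hA x hx) hg.ex)⟩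
    · exact ⟨x, hx, Or.inr (v18 hk (hpos x hx) (hA x hx) hg.ex)⟩

/-- **The families in the own characteristic.** -/
theorem own_core {fam : Cfsg.Agent.H426.LieFam.Fam} {f d N : ℕ} (h : Sh p (Nat.card S) f d N fam.facs)
    (hn : match fam with
      | .psl n => 2 ≤ n | .psp m => 1 ≤ m | .psu n => 3 ≤ n | .oodd m => 1 ≤ m | .oplus m => 4 ≤ m | .ominus m => 4 ≤ m
      | _ => True) : fam = .e7 ∧ f = k := by
  have hk := R.hk
  have hf := h.f_pos
  cases fam with
  | psl n => exact (no_psl R h).elim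
  | psp m => exact (no_sp R h).elim
  | oodd m => exact (no_sp R h).elim
  | psu n => exact (no_psu R hn h).elim
  | oplus m => exact (no_oplus R hn h).elim
  | ominus m => exact (no_ominus R hn h).elim
  | e7 =>
    refine ⟨rfl, ?_⟩
    obtain ⟨-, -, h3, hA⟩ := fin_list R h (by simp [Fam.facs, ex]; omega)
    simp only [Fam.facs, ex, List.map_cons, List.map_nil, List.mem_cons, List.not_mem_nil, or_false, exists_eq_or_imp,
      exists_eq_left, forall_eq_or_imp, forall_eq] at h3 hA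
    obtain ⟨-, -, -, -, -, a14, a18⟩ := hA
    unfold Al at a14 a18
    omega
  | e8 =>
    exfalso
    obtain ⟨-, -, h3, hA⟩ := fin_list R h (by simp [Fam.facs, ex]; omega)
    simp only [Fam.facs, ex, List.map_cons, List.map_nil, List.mem_cons, List.not_mem_nil, or_false, exists_eq_or_imp,
      exists_eq_left, forall_eq_or_imp, forall_eq] at h3 hA
    obtain ⟨-, -, -, -, -, -, a24, a30⟩ := hA
    unfold Al at a24 a30
    omega
  | e6 =>
    exfalso
    obtain ⟨-, -, h3, hA⟩ := fin_list R h (by simp [Fam.facs, ex]; omega)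
    simp only [Fam.facs, ex, List.map_cons, List.map_nil, List.mem_cons, List.not_mem_nil, or_false, exists_eq_or_imp,
      exists_eq_left, forall_eq_or_imp, forall_eq] at h3 hA
    obtain ⟨-, -, -, -, a9, a12⟩ := hA
    unfold Al at a9 a12
    omega
  | te6 =>
    exfalso
    obtain ⟨h1, -, h3, hA⟩ := fin_list R h (by simp [Fam.facs, ex]; omega)
    simp only [Fam.facs, ex, List.mem_cons, List.not_mem_nil, or_false, exists_eq_or_imp,
      exists_eq_left, forall_eq_or_imp, forall_eq] at h1 h3 hA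
    obtain ⟨-, -, -, -, a18, a12⟩ := hA
    unfold Al at a12 a18
    omega
  | f4 =>
    exfalso
    obtain ⟨h1, -, h3, hA⟩ := fin_list R h (by simp [Fam.facs, ex]; omega)
    simp only [Fam.facs, ex, List.map_cons, List.map_nil, List.mem_cons, List.not_mem_nil, or_false, exists_eq_or_imp,
      exists_eq_left, forall_eq_or_imp, forall_eq] at h1 h3 hA
    obtain ⟨-, -, a8, a12⟩ := hA
    unfold Al at a8 a12
    omega
  | _ =>
    exfalso
    obtain ⟨h1, h2, h3, hA⟩ := fin_list R h (by simp [Fam.facs, ex]; try omega)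
    simp only [Fam.facs, ex, List.map_cons, List.map_nil, List.mem_cons, List.not_mem_nil, or_false, exists_eq_or_imp,
      exists_eq_left, forall_eq_or_imp, forall_eq] at h1 h2 h3 hA
    clear hA
    omega

end own_core

/-- **Own characteristic.** -/
theorem row_own {s : Bool} {p k : ℕ} {S : Type u} [Group S] (R : RowS s p k S) {g : Grp} (hg : IsNamed g S)
    (h : p ∣ fld g) (h0 : fld g ≠ 0) : g = .e7 (p ^ k) := by
  have hp := R.hp
  have hreal := hg.real
  have hcond := hg.cond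
  have heq := hg.eq
  cases g with
  | psl n q =>
    exfalso
    obtain ⟨hn, -, hq⟩ := hcond
    obtain ⟨f, hf, rfl⟩ := pow_of_dvd hp hq h
    obtain ⟨F, _, _, hF, ⟨e⟩⟩ := hreal
    obtain ⟨d, N, hS⟩ := sh_psl hf hF hn hp
    rw [← Nat.card_congr e.toEquiv] at hS
    exact no_psl R hS
  | psp m q =>
    exfalso
    obtain ⟨hm, -, hq⟩ := hcond
    obtain ⟨f, hf, rfl⟩ := pow_of_dvd hp hq h
    obtain ⟨F, _, _, hF, ⟨e⟩⟩ := hreal
    obtain ⟨d, N, hS⟩ := sh_psp hf hF hm hp
    rw [← Nat.card_congr e.toEquiv] at hS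
    exact no_sp R hS
  | psu n q =>
    exfalso
    obtain ⟨hn, -, hq⟩ := hcond
    obtain ⟨f, hf, rfl⟩ := pow_of_dvd hp hq h
    obtain ⟨F, _, _, hF, ⟨e⟩⟩ := hreal
    obtain ⟨d, N, hS⟩ := sh_psu hf hF hn hp
    rw [← Nat.card_congr e.toEquiv] at hS
    exact no_psu R hn hS
  | oodd m q =>
    exfalso
    obtain ⟨hm, ho, hq⟩ := hcond
    obtain ⟨f, hf, rfl⟩ := pow_of_dvd hp hq h
    obtain ⟨F, _, _, hF, ⟨e⟩⟩ := hreal
    obtain ⟨d, N, hS⟩ := sh_oodd hf hF hm (by rwa [hF]) hp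
    rw [← Nat.card_congr e.toEquiv] at hS
    exact no_sp R hS
  | oplus m q =>
    exfalso
    obtain ⟨hm, hq⟩ := hcond
    obtain ⟨f, hf, rfl⟩ := pow_of_dvd hp hq h
    obtain ⟨F, _, _, hF, ⟨e⟩⟩ := hreal
    obtain ⟨d, N, hS⟩ := sh_oplus hf hF hm hp
    rw [← Nat.card_congr e.toEquiv] at hS
    exact no_oplus R hm hS
  | ominus m q =>
    exfalso
    obtain ⟨hm, hq⟩ := hcond
    obtain ⟨f, hf, rfl⟩ := pow_of_dvd hp hq h
    obtain ⟨F, _, _, a, b, hF, hab, ⟨e⟩⟩ := hreal
    obtain ⟨d, N, hS⟩ := sh_ominus hf hF hm hab hp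
    rw [← Nat.card_congr e.toEquiv] at hS
    exact no_ominus R hm hS
  | g2 q =>
    obtain ⟨-, hq⟩ := hcond
    obtain ⟨f, hf, rfl⟩ := pow_of_dvd hp hq h
    have hS : Sh p (Nat.card S) f 1 6 Fam.g2.facs := by
      refine sh_list hp (by norm_num) (Nat.coprime_one_left _) hf (by norm_num) (by norm_num) ?_
      refine heq.trans ?_
      change (p ^ f) ^ 6 * (((p ^ f) ^ 2 - 1) * ((p ^ f) ^ 6 - 1)) = _
      simp only [Fam.facs, List.map_cons, List.map_nil, List.prod_cons, List.prod_nil, Fac.val]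
      ring
    exact absurd (own_core R (fam := .g2) hS trivial).1 (by simp)
  | f4 q =>
    obtain ⟨f, hf, rfl⟩ := pow_of_dvd hp hcond h
    have hS : Sh p (Nat.card S) f 1 24 Fam.f4.facs := by
      refine sh_list hp (by norm_num) (Nat.coprime_one_left _) hf (by norm_num) (by norm_num) ?_
      refine heq.trans ?_
      change (p ^ f) ^ 24 * (((p ^ f) ^ 2 - 1) * ((p ^ f) ^ 6 - 1) * ((p ^ f) ^ 8 - 1) * ((p ^ f) ^ 12 - 1)) = _
      simp only [Fam.facs, List.map_cons, List.map_nil, List.prod_cons, List.prod_nil, Fac.val]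
      ring
    exact absurd (own_core R (fam := .f4) hS trivial).1 (by simp)
  | e6 q =>
    obtain ⟨f, hf, rfl⟩ := pow_of_dvd hp hcond h
    obtain ⟨g1, g2⟩ := gcd_small (m := 3) (x := p ^ f - 1) (by norm_num) (by norm_num) (by norm_num)
    have hS : Sh p (Nat.card S) f (Nat.gcd 3 (p ^ f - 1)) 36 Fam.e6.facs := by
      refine sh_list hp (by norm_num) (cop_sub' hp) hf g1 g2 ?_
      refine heq.trans ?_
      change (p ^ f) ^ 36 * (((p ^ f) ^ 2 - 1) * ((p ^ f) ^ 5 - 1) * ((p ^ f) ^ 6 - 1) * ((p ^ f) ^ 8 - 1) *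
        ((p ^ f) ^ 9 - 1) * ((p ^ f) ^ 12 - 1)) = _
      simp only [Fam.facs, List.map_cons, List.map_nil, List.prod_cons, List.prod_nil, Fac.val]
      ring
    exact absurd (own_core R (fam := .e6) hS trivial).1 (by simp)
  | e7 q =>
    obtain ⟨f, hf, rfl⟩ := pow_of_dvd hp hcond h
    obtain ⟨g1, g2⟩ := gcd_small (m := 2) (x := p ^ f - 1) (by norm_num) (by norm_num) (by norm_num)
    have hS : Sh p (Nat.card S) f (Nat.gcd 2 (p ^ f - 1)) 63 Fam.e7.facs := by
      refine sh_list hp (by norm_num) (cop_sub' hp) hf g1 g2 ?_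
      refine heq.trans ?_
      change (p ^ f) ^ 63 * (((p ^ f) ^ 2 - 1) * ((p ^ f) ^ 6 - 1) * ((p ^ f) ^ 8 - 1) * ((p ^ f) ^ 10 - 1) *
        ((p ^ f) ^ 12 - 1) * ((p ^ f) ^ 14 - 1) * ((p ^ f) ^ 18 - 1)) = _
      simp only [Fam.facs, List.map_cons, List.map_nil, List.prod_cons, List.prod_nil, Fac.val]
      ring
    rw [(own_core R (fam := .e7) hS trivial).2]
  | e8 q =>
    obtain ⟨f, hf, rfl⟩ := pow_of_dvd hp hcond h
    have hS : Sh p (Nat.card S) f 1 120 Fam.e8.facs := by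
      refine sh_list hp (by norm_num) (Nat.coprime_one_left _) hf (by norm_num) (by norm_num) ?_
      refine heq.trans ?_
      change (p ^ f) ^ 120 * (((p ^ f) ^ 2 - 1) * ((p ^ f) ^ 8 - 1) * ((p ^ f) ^ 12 - 1) * ((p ^ f) ^ 14 - 1) *
        ((p ^ f) ^ 18 - 1) * ((p ^ f) ^ 20 - 1) * ((p ^ f) ^ 24 - 1) * ((p ^ f) ^ 30 - 1)) = _
      simp only [Fam.facs, List.map_cons, List.map_nil, List.prod_cons, List.prod_nil, Fac.val]
      ring
    exact absurd (own_core R (fam := .e8) hS trivial).1 (by simp)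
  | te6 q =>
    obtain ⟨f, hf, rfl⟩ := pow_of_dvd hp hcond h
    obtain ⟨g1, g2⟩ := gcd_small (m := 3) (x := p ^ f + 1) (by norm_num) (by norm_num) (by norm_num)
    have hS : Sh p (Nat.card S) f (Nat.gcd 3 (p ^ f + 1)) 36 Fam.te6.facs := by
      refine sh_list hp (by norm_num) cop_add' hf g1 g2 ?_
      refine heq.trans ?_
      change (p ^ f) ^ 36 * (((p ^ f) ^ 2 - 1) * ((p ^ f) ^ 5 + 1) * ((p ^ f) ^ 6 - 1) * ((p ^ f) ^ 8 - 1) *
        ((p ^ f) ^ 9 + 1) * ((p ^ f) ^ 12 - 1)) = _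
      simp only [Fam.facs, List.map_cons, List.map_nil, List.prod_cons, List.prod_nil, Fac.val]
      ring
    exact absurd (own_core R (fam := .te6) hS trivial).1 (by simp)
  | td4 q =>
    obtain ⟨f, hf, rfl⟩ := pow_of_dvd hp hcond h
    have hS : Sh p (Nat.card S) f 1 12 Fam.td4.facs := by
      refine sh_list hp (by norm_num) (Nat.coprime_one_left _) hf (by norm_num) (by norm_num) ?_
      refine heq.trans ?_
      change (p ^ f) ^ 12 * (((p ^ f) ^ 2 - 1) * ((p ^ f) ^ 6 - 1) * ((p ^ f) ^ 8 + (p ^ f) ^ 4 + 1)) = _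
      simp only [Fam.facs, List.map_cons, List.map_nil, List.prod_cons, List.prod_nil, Fac.val]
      ring
    exact absurd (own_core R (fam := .td4) hS trivial).1 (by simp)
  | sz q =>
    obtain ⟨m, hm, rfl⟩ := hcond
    exact absurd ((Nat.prime_dvd_prime_iff_eq hp Nat.prime_two).1 (hp.dvd_of_dvd_pow h)) R.h2
  | ree q =>
    obtain ⟨m, hm, rfl⟩ := hcond
    obtain rfl : p = 3 := (Nat.prime_dvd_prime_iff_eq hp Nat.prime_three).1 (hp.dvd_of_dvd_pow h)
    have hS : Sh 3 (Nat.card S) (2 * m + 1) 1 3 Fam.ree.facs := by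
      refine sh_list (f := 2 * m + 1) Nat.prime_three (by norm_num) (Nat.coprime_one_left _) (by omega) (by norm_num)
        (by norm_num) ?_
      refine heq.trans ?_
      change (3 ^ (2 * m + 1)) ^ 3 * ((3 ^ (2 * m + 1) - 1) * ((3 ^ (2 * m + 1)) ^ 3 + 1)) = _
      simp only [Fam.facs, List.map_cons, List.map_nil, List.prod_cons, List.prod_nil, Fac.val, pow_one]
      ring
    exact absurd (own_core R (fam := .ree) hS trivial).1 (by simp)
  | tf4 q =>
    obtain ⟨m, hm, rfl⟩ := hcond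
    exact absurd ((Nat.prime_dvd_prime_iff_eq hp Nat.prime_two).1 (hp.dvd_of_dvd_pow h)) R.h2
  | _ => exact absurd rfl h0

end Cfsg.Agent.R2.Spec.X1.E7
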