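import Cfsg.Agent.R2.Spec.X1.E7.Def
import Cfsg.Agent.H334.E7.Row

/-!
# `E₇(q)`, `q` odd: the row `E₇(u)` (helper13, S3435; after helper334, S3482)
-/

set_option autoImplicit false

namespace Cfsg.Agent.R2.Spec.X1.E7

open Cfsg Cfsg.Agent.H436 Cfsg.Agent.H962.E7 Cfsg.Agent.OrdDiv
open Cfsg.Agent.H334.E7.Facts Cfsg.Agent.H334.E7.NT Cfsg.Agent.H334.E7.Lay Cfsg.Agent.H334.E7.Size
open Cfsg.Agent.H334.E7.Row (d_sub d_add parity tt7 tt14 tt9 tt18 fin_eq)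

universe u'

/-! ### arithmetic -/

theorem bound7' {q u a X : ℕ} (hq : 13 ≤ q) (hu : 8 ≤ u) (ha : a ∈ C4) (h : q ^ 6 * 3 ≤ 28 * TT u a)
    (hX : 2 * X ≤ 7 * (q + 1)) : X < u ^ 4 := by
  by_contra hcon
  push Not at hcon
  have h2 := tt_le' (u := u) (by omega) ha
  have h3 : q ^ 6 * 3 ≤ 28 * (2 * u ^ 7) := h.trans (Nat.mul_le_mul_left _ h2)
  have h4 : 2 * u ^ 4 ≤ 7 * (q + 1) := by omega
  have h5 : 32 * u ^ 7 ≤ 49 * (q + 1) ^ 2 := by
    calc 32 * u ^ 7 = 4 * u ^ 7 * 8 := by ring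
      _ ≤ 4 * u ^ 7 * u := Nat.mul_le_mul_left _ hu
      _ = (2 * u ^ 4) ^ 2 := by ring
      _ ≤ (7 * (q + 1)) ^ 2 := Nat.pow_le_pow_left h4 2
      _ = 49 * (q + 1) ^ 2 := by ring
  have h6 : 12 * q ^ 6 ≤ 1372 * q ^ 2 := by
    calc 12 * q ^ 6 = 4 * (q ^ 6 * 3) := by ring
      _ ≤ 4 * (28 * (2 * u ^ 7)) := Nat.mul_le_mul_left _ h3
      _ = 7 * (32 * u ^ 7) := by ring
      _ ≤ 7 * (49 * (q + 1) ^ 2) := Nat.mul_le_mul_left _ h5
      _ = 343 * (q + 1) ^ 2 := by ring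
      _ ≤ 343 * (2 * q) ^ 2 := Nat.mul_le_mul_left _ (Nat.pow_le_pow_left (by omega) 2)
      _ = 1372 * q ^ 2 := by ring
  have h7 : 28561 * q ^ 2 ≤ q ^ 6 := by
    calc 28561 * q ^ 2 = 13 ^ 4 * q ^ 2 := by norm_num
      _ ≤ q ^ 4 * q ^ 2 := Nat.mul_le_mul_right _ (Nat.pow_le_pow_left hq 4)
      _ = q ^ 6 := by ring
  have h8 : 0 < q ^ 2 := by positivity
  omega

theorem bound9' {q u b X : ℕ} (hq : 13 ≤ q) (hu : 8 ≤ u) (hb : b ∈ C4) (h3 : q ^ 6 - q ^ 3 + 1 ≤ 3 * TT u b)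
    (hX : 2 * X ≤ 3 * (q ^ 3 + 1)) : X < u ^ 4 := by
  by_contra hcon
  push Not at hcon
  have h4 := tt_le (show 2 ≤ u by omega) hb
  have hle : q ^ 3 ≤ q ^ 6 := Nat.pow_le_pow_right (by omega) (by norm_num)
  have h5 : (q : ℤ) ^ 6 - (q : ℤ) ^ 3 + 1 ≤ 3 * (((u : ℤ) + 1) * ((u : ℤ) ^ 6 - (u : ℤ) ^ 3 + 1)) := by
    have h6 : ((q ^ 6 - q ^ 3 + 1 : ℕ) : ℤ) ≤ ((3 * TT u b : ℕ) : ℤ) := by exact_mod_cast h3
    push_cast [Nat.cast_sub hle] at h6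
    linarith
  have h6 : 2 * (u : ℤ) ^ 4 ≤ 3 * ((q : ℤ) ^ 3 + 1) := by
    have : 2 * u ^ 4 ≤ 3 * (q ^ 3 + 1) := by omega
    exact_mod_cast this
  have hq' : (13 : ℤ) ≤ q := by exact_mod_cast hq
  have hu' : (8 : ℤ) ≤ u := by exact_mod_cast hu
  have hq3 : (2197 : ℤ) ≤ (q : ℤ) ^ 3 := by
    calc (2197 : ℤ) = 13 ^ 3 := by norm_num
      _ ≤ (q : ℤ) ^ 3 := pow_le_pow_left₀ (by norm_num) hq' 3
  have hu6 : (0 : ℤ) < (u : ℤ) ^ 6 := by positivity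
  have hu3 : (512 : ℤ) ≤ (u : ℤ) ^ 3 := by
    calc (512 : ℤ) = 8 ^ 3 := by norm_num
      _ ≤ (u : ℤ) ^ 3 := pow_le_pow_left₀ (by norm_num) hu' 3
  have h7 : 4 * (u : ℤ) ^ 8 ≤ 9 * ((q : ℤ) ^ 3 + 1) ^ 2 := by
    have h8 : (2 * (u : ℤ) ^ 4) ^ 2 ≤ (3 * ((q : ℤ) ^ 3 + 1)) ^ 2 := pow_le_pow_left₀ (by positivity) h6 2
    calc 4 * (u : ℤ) ^ 8 = (2 * (u : ℤ) ^ 4) ^ 2 := by ring
      _ ≤ _ := h8
      _ = 9 * ((q : ℤ) ^ 3 + 1) ^ 2 := by ring
  have h8 : 100 * ((q : ℤ) ^ 3 + 1) ^ 2 ≤ 101 * ((q : ℤ) ^ 6 - (q : ℤ) ^ 3 + 1) := by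
    have h9 : (q : ℤ) ^ 6 = (q : ℤ) ^ 3 * (q : ℤ) ^ 3 := by ring
    rw [h9]
    generalize (q : ℤ) ^ 3 = z at hq3
    nlinarith
  have h9 : 400 * (u : ℤ) ^ 8 ≤ 2727 * (((u : ℤ) + 1) * (u : ℤ) ^ 6) := by
    have h10 : ((u : ℤ) + 1) * ((u : ℤ) ^ 6 - (u : ℤ) ^ 3 + 1) ≤ ((u : ℤ) + 1) * (u : ℤ) ^ 6 :=
      mul_le_mul_of_nonneg_left (by linarith) (by positivity)
    linarith
  have h10 : 400 * (u : ℤ) ^ 2 ≤ 2727 * ((u : ℤ) + 1) := by
    have h11 : (u : ℤ) ^ 6 * (400 * (u : ℤ) ^ 2) ≤ (u : ℤ) ^ 6 * (2727 * ((u : ℤ) + 1)) := by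
      calc _ = 400 * (u : ℤ) ^ 8 := by ring
        _ ≤ _ := h9
        _ = _ := by ring
    exact le_of_mul_le_mul_left h11 hu6
  nlinarith

theorem u_ge' {q u a : ℕ} (hq : 13 ≤ q) (ha : a ∈ C4) (h : q ^ 6 * 3 ≤ 28 * TT u a) : 8 ≤ u := by
  by_contra hcon
  push Not at hcon
  have h2 := small_tt u hcon a ha
  have h4 : 13 ^ 6 ≤ q ^ 6 := Nat.pow_le_pow_left hq 6
  norm_num at h4
  omega

/-- the lower bound of the tori -/
theorem tt_ge {u a : ℕ} (hu : 13 ≤ u) (ha : a ∈ C4) : 28960854 ≤ TT u a := by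
  have h := tt_mul (u := u) (by omega) ha
  have h1 : Nat.gcd 2 (u - 1) ≤ 2 := Nat.gcd_le_left _ (by norm_num)
  have h2 : PN u a ≤ 2 * TT u a := by
    rw [← h]
    exact Nat.mul_le_mul_right _ h1
  have h3 : (12 : ℕ) * 13 ^ 6 ≤ PN u a := by
    have h6 : 13 ^ 6 ≤ u ^ 6 := Nat.pow_le_pow_left hu 6
    have h36 : u ^ 3 ≤ u ^ 6 := Nat.pow_le_pow_right (by omega) (by norm_num)
    have h7 : u ^ 7 = u * u ^ 6 := by ring
    rcases mem_c4 ha with rfl | rfl | rfl | rfl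
    · show (12 : ℕ) * 13 ^ 6 ≤ u ^ 7 - 1
      have : 13 * 13 ^ 6 ≤ u * u ^ 6 := Nat.mul_le_mul hu h6
      omega
    · show (12 : ℕ) * 13 ^ 6 ≤ (u - 1) * (u ^ 6 + u ^ 3 + 1)
      exact Nat.mul_le_mul (by omega) (by omega)
    · show (12 : ℕ) * 13 ^ 6 ≤ u ^ 7 + 1
      have : 13 * 13 ^ 6 ≤ u * u ^ 6 := Nat.mul_le_mul hu h6
      omega
    · show (12 : ℕ) * 13 ^ 6 ≤ (u + 1) * (u ^ 6 - u ^ 3 + 1)
      have h8 : 2 * u ^ 3 ≤ u ^ 6 := by
        calc 2 * u ^ 3 ≤ u ^ 3 * u ^ 3 := Nat.mul_le_mul_right _ ((show 2 ≤ u by omega).trans (Nat.le_self_pow (by norm_num) u))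
          _ = u ^ 6 := by ring
      have h9 : u ^ 6 ≤ 2 * (u ^ 6 - u ^ 3 + 1) := by omega
      have h12 : 13 ^ 3 ≤ u ^ 3 := Nat.pow_le_pow_left hu 3
      have h10 : 13 ^ 6 ≤ u ^ 6 - u ^ 3 + 1 + 13 ^ 3 := by
        have : u ^ 6 = u ^ 3 * u ^ 3 := by ring
        obtain ⟨z, hz⟩ : ∃ z, u ^ 3 = z + 13 ^ 3 := ⟨u ^ 3 - 13 ^ 3, by omega⟩
        rw [this, hz]
        have : (z + 13 ^ 3) * (z + 13 ^ 3) = z * z + 2 * 13 ^ 3 * z + 13 ^ 6 := by ring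
        rw [this]
        norm_num
        have := Nat.zero_le (z * z)
        omega
      have h11 : (12 : ℕ) * 13 ^ 6 ≤ 14 * (u ^ 6 - u ^ 3 + 1) := by
        norm_num at h10 ⊢
        omega
      exact h11.trans (Nat.mul_le_mul_right _ (by omega))
  norm_num at h3
  omega

theorem check1 : ∀ q ∈ ({5, 9} : Finset ℕ), ∀ u ∈ Finset.Ico 2 13, Nat.gcd q u = 1 → ∀ a ∈ C4, ¬ NN q 14 ∣ TT u a := by
  decide +kernel

theorem check2 : ∀ q ∈ ({3, 7, 11} : Finset ℕ), ∀ u ∈ Finset.Ico 2 13, Nat.gcd q u = 1 → ∀ a ∈ C4,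
    ¬ NN q 7 ∣ TT u a := by
  decide +kernel

/-! ### groups -/

variable {s : Bool} {p k u : ℕ} {S : Type u'} [Group S]

/-- the class of a prime of the classes 7, 9, 14, 18 -/
theorem cls7 (R : RowS s p k S) (U : UFacts S u) (hu : 2 ≤ u) {i r : ℕ} (hi : i ∈ C4) (F : Fl S (p ^ k) i)
    (hr : Prim (p ^ k) i r) :
    (∃ c ∈ C4, Prim u c r ∧ TT u c ∣ TT (p ^ k) i ∧ NN (p ^ k) i ∣ TT u c) ∨
      ((u - 1) / Nat.gcd 2 (u - 1) ∣ TT (p ^ k) i ∧ (u + 1) / Nat.gcd 2 (u - 1) ∣ TT (p ^ k) i) := by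
  have hq := two_le R
  have h8 := Cfsg.Agent.H824.E7.Facts.gt_eight (by omega) hr (H627.E7.C4_sub hi)
  rcases U.adj r hr.prime h8 (F.dvd r hr) with ⟨c, hc, h⟩ | ⟨⟨x, hx, hx'⟩, ⟨y, hy, hy'⟩⟩
  · refine Or.inl ⟨c, hc, h, ?_, ?_⟩
    · obtain ⟨x, hx⟩ := U.elt c hc
      rw [← hx]
      exact R.tor i hi x r hr (by rw [hx]; exact prim_dvd_tt hu hc h)
    · obtain ⟨x, hx⟩ := F.elt hi
      rw [← hx]
      exact U.tor c hc x r h (by rw [hx]; exact prim_dvd_nn hq hi hr)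
  · exact Or.inr ⟨hx'.trans (R.tor i hi x r hr hx), hy'.trans (R.tor i hi y r hr hy)⟩

/-- one class of `u` contains primes of one class of `q` only -/
theorem one_class (R : RowS s p k S) (U : UFacts S u) (hu : 2 ≤ u) {i j r t c : ℕ} (hi : i ∈ C4) (hj : j ∈ C4)
    (hij : i ≠ j) (hr : Prim (p ^ k) i r) (ht : Prim (p ^ k) j t) (hc : c ∈ C4) (h1 : Prim u c r)
    (h2 : Prim u c t) : False := by
  obtain ⟨x, hx⟩ := U.elt c hc
  have hrs : r ≠ t := fun h => hij (hr.unique (h ▸ ht))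
  have h3 : r * t ∣ orderOf x := by
    rw [hx]
    exact Nat.Coprime.mul_dvd_of_dvd_of_dvd ((Nat.coprime_primes hr.prime ht.prime).2 hrs)
      (prim_dvd_tt hu hc h1) (prim_dvd_tt hu hc h2)
  have h4 : orderOf x ≠ 0 := by
    rw [hx]
    exact (tt_pos hu hc).ne'
  exact R.nad i (H627.E7.C4_sub hi) j (H627.E7.C4_sub hj) hij r t hr ht
    ⟨x ^ (orderOf x / (r * t)), orderOf_pow_orderOf_div h4 h3⟩

/-- the top classes are isolated -/
theorem isol (R : RowS s p k S) (U : UFacts S u) (hu : 2 ≤ u) {i r : ℕ} (hi : IsT s i)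
    (hr : Prim (p ^ k) i r) :
    ∃ c ∈ C4, Prim u c r ∧ TT u c ∣ TT (p ^ k) i ∧ NN (p ^ k) i ∣ TT u c := by
  have hq := two_le R
  rcases cls7 R U hu hi.c4 (R.top i hi) hr with h | ⟨h3, h4⟩
  · exact h
  exfalso
  rcases Nat.mod_two_eq_zero_or_one u with hev | ho
  swap
  · exact parity hu ho (TT_odd R.hs hi) h3 h4
  have he : Nat.gcd 2 (u - 1) = 1 := H267.E7R.gcd_two_even hev hu
  -- the other prime
  obtain ⟨j, hj, hFj⟩ := side R
  obtain ⟨t, ht⟩ := ex8 R hj.c8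
  rcases cls7 R U hu hj.c4 hFj ht with ⟨c, hc, h5, h6, h7⟩ | ⟨-, h6⟩
  · have hc' : c = 7 ∨ c = 9 := by
      by_contra hcon
      have hc' : c = 14 ∨ c = 18 := by have := mem_c4 hc; omega
      have := cop hq R.hs hi hj h4 ((d_add hu hc').trans h6)
      rw [he, Nat.div_one] at this
      omega
    have h8 := cop hq R.hs hi hj h3 ((d_sub hu hc').trans h6)
    rw [he, Nat.div_one] at h8
    have hu2 : u = 2 := by omega
    subst hu2
    have h9 : TT 2 c ≤ 171 := by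
      have : ∀ c ∈ C4, TT 2 c ≤ 171 := by decide
      exact this c hc
    have h10 := (Nat.le_of_dvd (tt_pos hu hc) h7).trans h9
    have h11 := NN_ge hj.c4 (three_le R)
    have h12 : p ^ k = 3 := by
      by_contra hne
      have h13 : 4 ^ 6 ≤ (p ^ k) ^ 6 := Nat.pow_le_pow_left (by have := three_le R; omega) 6
      norm_num at h13
      omega
    rw [h12] at h10
    have hs : s = false := by
      have := R.hs
      rw [h12] at this
      cases s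
      · rfl
      · simp [md] at this
    subst hs
    simp only [IsB, Bool.false_eq_true, if_false] at hj
    rcases hj with rfl | rfl <;> norm_num [NN] at h10
  · have := cop hq R.hs hi hj h4 h6
    rw [he, Nat.div_one] at this
    omega

theorem core7 (R : RowS s p k S) (U : UFacts S u) (hu : 2 ≤ u) (hv : Nat.Coprime p u) : False := by
  have hq3 := three_le R
  have hqm := gcd_two R.hs
  have i1 := isT_t1 s
  have i2 := isT_t2 s
  obtain ⟨r, hr⟩ := ex8 R i1.c8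
  obtain ⟨t, ht⟩ := ex8 R i2.c8
  obtain ⟨a, ha, ka, ta, na⟩ := isol R U hu i1 hr
  obtain ⟨b, hb, kb, tb, nb⟩ := isol R U hu i2 ht
  have hN14 : NN (p ^ k) (t1 s) ≤ TT u a := Nat.le_of_dvd (tt_pos hu ha) na
  have hN18 : NN (p ^ k) (t2 s) ≤ TT u b := Nat.le_of_dvd (tt_pos hu hb) nb
  rcases Nat.lt_or_ge (p ^ k) 13 with hsmall | hq13
  · -- small fields
    have hmem : p ^ k ∈ ({3, 5, 7, 9, 11} : Finset ℕ) := by
      have := odd_of R.hs
      simp only [Finset.mem_insert, Finset.mem_singleton]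
      omega
    have hle := Nat.le_of_dvd (tt_pos (two_le R) i1.c4) ta
    have hT := TT_le i1.c4 hq3 hqm
    have hu13 : u < 13 := by
      by_contra hcon
      push Not at hcon
      have h1 := tt_ge hcon ha
      have h2 : (p ^ k) ^ 7 ≤ 11 ^ 7 := Nat.pow_le_pow_left (by
        simp only [Finset.mem_insert, Finset.mem_singleton] at hmem
        omega) 7
      norm_num at h2
      omega
    have hum : u ∈ Finset.Ico 2 13 := Finset.mem_Ico.2 ⟨hu, hu13⟩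
    have hgc : Nat.gcd (p ^ k) u = 1 := Nat.Coprime.pow_left k hv
    have h4 := R.hs
    simp only [Finset.mem_insert, Finset.mem_singleton] at hmem
    cases s
    · simp only [md, Bool.false_eq_true, if_false] at h4
      refine check2 (p ^ k) ?_ u hum hgc a ha na
      simp only [Finset.mem_insert, Finset.mem_singleton]
      omega
    · simp only [md, if_true] at h4
      refine check1 (p ^ k) ?_ u hum hgc a ha na
      simp only [Finset.mem_insert, Finset.mem_singleton]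
      omega
  have hge14 : (p ^ k) ^ 6 * 3 ≤ 28 * TT u a := (NN_ge i1.c4 hq3).trans (Nat.mul_le_mul_left _ hN14)
  have hge18 : (p ^ k) ^ 6 - (p ^ k) ^ 3 + 1 ≤ 3 * TT u b := by
    refine le_trans ?_ (Nat.mul_le_mul_left 3 hN18)
    have h1 := nn_gcd (q := p ^ k) (by omega) i2.c4
    have h36 : (p ^ k) ^ 3 ≤ (p ^ k) ^ 6 := Nat.pow_le_pow_right (by omega) (by norm_num)
    zify [h36]
    have hg : Nat.gcd (ee (t2 s)) (LL (p ^ k) (t2 s)) ≤ 3 := by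
      cases s
      · exact Nat.gcd_le_left _ (by decide)
      · exact Nat.gcd_le_left _ (by decide)
    have h2 : (NN (p ^ k) (t2 s) : ℤ) * (Nat.gcd (ee (t2 s)) (LL (p ^ k) (t2 s)) : ℤ) ≤ NN (p ^ k) (t2 s) * 3 :=
      mul_le_mul_of_nonneg_left (by exact_mod_cast hg) (by positivity)
    rw [h1] at h2
    have h3 : ((p : ℤ) ^ k) ^ 6 - ((p : ℤ) ^ k) ^ 3 + 1 ≤ BZ ((p ^ k : ℕ) : ℤ) (t2 s) := by
      cases s
      · change _ ≤ ((p ^ k : ℕ) : ℤ) ^ 6 + ((p ^ k : ℕ) : ℤ) ^ 3 + 1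
        push_cast
        have : (0 : ℤ) ≤ ((p : ℤ) ^ k) ^ 3 := by positivity
        linarith
      · change _ ≤ ((p ^ k : ℕ) : ℤ) ^ 6 - ((p ^ k : ℕ) : ℤ) ^ 3 + 1
        push_cast
        exact le_rfl
    linarith
  have hu8 : 8 ≤ u := u_ge' hq13 ha hge14
  -- nonisolated
  have noniso : ∀ j, IsB s j → (u - 1) / Nat.gcd 2 (u - 1) ∣ TT (p ^ k) j →
      (u + 1) / Nat.gcd 2 (u - 1) ∣ TT (p ^ k) j → False := by
    intro j hj h3 h4
    have hle : Nat.gcd 2 (u - 1) ≤ 2 := Nat.gcd_le_left _ (by norm_num)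
    have hpos : 0 < Nat.gcd 2 (u - 1) := gcd_pos
    obtain ⟨e, he⟩ : ∃ e, Nat.gcd 2 (u - 1) = e := ⟨_, rfl⟩
    have big : ∀ n, 7 ≤ n → n / Nat.gcd 2 (u - 1) ≠ 1 := by
      intro n hn
      rw [he] at hle hpos ⊢
      rcases (show e = 1 ∨ e = 2 by omega) with rfl | rfl <;> omega
    rcases mem_c4 ha with h | h | h | h
    · exact big (u - 1) (by omega) (cop (two_le R) R.hs i1 hj ((d_sub hu (Or.inl h)).trans ta) h3)
    · exact big (u - 1) (by omega) (cop (two_le R) R.hs i1 hj ((d_sub hu (Or.inr h)).trans ta) h3)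
    · exact big (u + 1) (by omega) (cop (two_le R) R.hs i1 hj ((d_add hu (Or.inl h)).trans ta) h4)
    · exact big (u + 1) (by omega) (cop (two_le R) R.hs i1 hj ((d_add hu (Or.inr h)).trans ta) h4)
  have hpv : ∀ n, 1 ≤ n → ((p ^ k) ^ n = u ^ 7 ∨ (p ^ k) ^ n = u ^ 9) → False := by
    intro n hn h
    have h1 : p ∣ (p ^ k) ^ n := dvd_pow (dvd_pow_self p (by have := R.hk; omega)) (by omega)
    have hv' : ¬ p ∣ u := (R.hp.coprime_iff_not_dvd).1 hv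
    rcases h with h | h
    · exact hv' (R.hp.dvd_of_dvd_pow (h ▸ h1))
    · exact hv' (R.hp.dvd_of_dvd_pow (h ▸ h1))
  rcases R.one (b1 s) (isB_b1 s).c8 (b2 s) (isB_b2 s).c8 (b_ne s) with hF | hF
  · have j1 := isB_b1 s
    obtain ⟨w, hw⟩ := ex8 R j1.c8
    rcases cls7 R U hu j1.c4 hF hw with ⟨c, hc, kc, tc, nc⟩ | ⟨h3, h4⟩
    swap
    · exact noniso _ j1 h3 h4
    have hac : a ≠ c := by
      rintro rfl
      exact one_class R U hu i1.c4 j1.c4 (i1.ne j1) hr hw ha ka kc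
    obtain ⟨X, hX⟩ := ta
    obtain ⟨Y, hY⟩ := tc
    rw [mul_comm] at hX hY
    have e7 := tt7 (two_le R) hqm
    have e14 := tt14 (two_le R) hqm
    have hX2 := x_le (two_le R) hqm i1.c4 hX.symm na
    have hY2 := x_le (two_le R) hqm j1.c4 hY.symm nc
    obtain ⟨q, hq⟩ : ∃ q, p ^ k = q := ⟨_, rfl⟩
    rw [hq] at hX hY e7 e14 hX2 hY2 hge14 hq13
    have hq7 : 13 ≤ q ^ 7 := hq13.trans (Nat.le_self_pow (by norm_num) q)
    cases s
    · have l7 : LL q (t1 false) * ee (t1 false) = (q - 1) * 7 := rfl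
      have l14 : LL q (b1 false) * ee (b1 false) = (q + 1) * 7 := rfl
      rw [l7] at hX2
      rw [l14] at hY2
      change TT q 7 = _ at hX
      change TT q 14 = _ at hY
      have hX4 := bound7' (X := X) hq13 hu8 ha hge14 (by omega)
      have hY4 := bound7' (X := Y) hq13 hu8 ha hge14 (by omega)
      have hX0 : 0 < X := Nat.pos_of_ne_zero fun h => by rw [h, zero_mul] at hX; omega
      have hY0 : 0 < Y := Nat.pos_of_ne_zero fun h => by rw [h, zero_mul] at hY; omega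
      refine hpv 7 (by norm_num) (by
        rw [hq]; exact fin_eq hu8 hc ha hac.symm hY0 hX0 hY4 hX4 (by omega) (by omega))
    · have l7 : LL q (b1 true) * ee (b1 true) = (q - 1) * 7 := rfl
      have l14 : LL q (t1 true) * ee (t1 true) = (q + 1) * 7 := rfl
      rw [l14] at hX2
      rw [l7] at hY2
      change TT q 14 = _ at hX
      change TT q 7 = _ at hY
      have hX4 := bound7' (X := X) hq13 hu8 ha hge14 (by omega)
      have hY4 := bound7' (X := Y) hq13 hu8 ha hge14 (by omega)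
      have hX0 : 0 < X := Nat.pos_of_ne_zero fun h => by rw [h, zero_mul] at hX; omega
      have hY0 : 0 < Y := Nat.pos_of_ne_zero fun h => by rw [h, zero_mul] at hY; omega
      refine hpv 7 (by norm_num) (by
        rw [hq]; exact fin_eq hu8 ha hc hac hX0 hY0 hX4 hY4 (by omega) (by omega))
  · have j2 := isB_b2 s
    obtain ⟨w, hw⟩ := ex8 R j2.c8
    rcases cls7 R U hu j2.c4 hF hw with ⟨c, hc, kc, tc, nc⟩ | ⟨h3, h4⟩
    swap
    · exact noniso _ j2 h3 h4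
    have hbc : b ≠ c := by
      rintro rfl
      exact one_class R U hu i2.c4 j2.c4 (i2.ne j2) ht hw hb kb kc
    obtain ⟨X, hX⟩ := tb
    obtain ⟨Y, hY⟩ := tc
    rw [mul_comm] at hX hY
    have e9 := tt9 (two_le R) hqm
    have e18 := tt18 (two_le R) hqm
    have hX2 := x_le (two_le R) hqm i2.c4 hX.symm nb
    have hY2 := x_le (two_le R) hqm j2.c4 hY.symm nc
    obtain ⟨q, hq⟩ : ∃ q, p ^ k = q := ⟨_, rfl⟩
    rw [hq] at hX hY e9 e18 hX2 hY2 hge18 hq13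
    have hle' : q ≤ q ^ 2 := Nat.le_self_pow (by norm_num) q
    have cub1 : (q ^ 2 - q + 1) * (q + 1) = q ^ 3 + 1 := by
      zify [hle']; ring
    have cub2 : (q ^ 2 + q + 1) * (q - 1) + 1 = q ^ 3 := by
      obtain ⟨t, rfl⟩ : ∃ t, q = t + 1 := ⟨q - 1, by omega⟩
      rw [Nat.add_sub_cancel]; ring
    have bd1 : ∀ Z, 2 * Z ≤ (q + 1) * 3 → 2 * ((q ^ 2 - q + 1) * Z) ≤ 3 * (q ^ 3 + 1) := by
      intro Z hZ
      calc 2 * ((q ^ 2 - q + 1) * Z) = (q ^ 2 - q + 1) * (2 * Z) := by ring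
        _ ≤ (q ^ 2 - q + 1) * ((q + 1) * 3) := Nat.mul_le_mul_left _ hZ
        _ = 3 * (q ^ 3 + 1) := by rw [← cub1]; ring
    have bd2 : ∀ Z, 2 * Z ≤ (q - 1) * 3 → 2 * ((q ^ 2 + q + 1) * Z) ≤ 3 * (q ^ 3 + 1) := by
      intro Z hZ
      calc 2 * ((q ^ 2 + q + 1) * Z) = (q ^ 2 + q + 1) * (2 * Z) := by ring
        _ ≤ (q ^ 2 + q + 1) * ((q - 1) * 3) := Nat.mul_le_mul_left _ hZ
        _ = 3 * ((q ^ 2 + q + 1) * (q - 1)) := by ring
        _ ≤ 3 * (q ^ 3 + 1) := by omega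
    have hq9 : 13 ≤ q ^ 9 := hq13.trans (Nat.le_self_pow (by norm_num) q)
    -- `TT q 18 = A * TT u c₁`, `TT q 9 = B * TT u c₂`
    have fin : ∀ {A B c₁ c₂ : ℕ}, c₁ ∈ C4 → c₂ ∈ C4 → c₁ ≠ c₂ → 2 * A ≤ (q + 1) * 3 → 2 * B ≤ (q - 1) * 3 →
        TT q 18 = A * TT u c₁ → TT q 9 = B * TT u c₂ → q ^ 9 = u ^ 7 ∨ q ^ 9 = u ^ 9 := by
      intro A B c₁ c₂ hc₁ hc₂ hne hA hB h18 h9
      have hA4 := bound9' hq13 hu8 hb hge18 (bd1 A hA)
      have hB4 := bound9' hq13 hu8 hb hge18 (bd2 B hB)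
      have hA0 : 0 < A := Nat.pos_of_ne_zero fun h => by rw [h, zero_mul] at h18; rw [h18] at e18; simp at e18
      have hB0 : 0 < B := Nat.pos_of_ne_zero fun h => by rw [h, zero_mul] at h9; rw [h9] at e9; simp at e9; omega
      have e1 : (q ^ 2 - q + 1) * A * TT u c₁ = (q ^ 2 + q + 1) * B * TT u c₂ + 1 := by
        have f1 : 2 * ((q ^ 2 - q + 1) * A * TT u c₁) = q ^ 9 + 1 := by
          rw [← e18, h18]; ring
        have f2 : 2 * ((q ^ 2 + q + 1) * B * TT u c₂) + 1 = q ^ 9 := by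
          rw [← e9, h9]; ring
        omega
      exact fin_eq hu8 hc₁ hc₂ hne (Nat.mul_pos (by omega) hA0) (Nat.mul_pos (by positivity) hB0) hA4 hB4 e1
        (by rw [← e18, h18]; ring)
    cases s
    · refine hpv 9 (by norm_num) (by
        rw [hq]
        exact fin (A := Y) (B := X) hc hb hbc.symm hY2 hX2 hY hX)
    · refine hpv 9 (by norm_num) (by
        rw [hq]
        exact fin (A := X) (B := Y) hb hc hbc hX2 hY2 hX hY)

/-- **row `E₇(u)`** -/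
theorem row_e7 {s : Bool} {p k u : ℕ} {S : Type u'} [Group S] [Finite S] (R : RowS s p k S) (hg : IsNamed (.e7 u) S)
    (hv : ¬ p ∣ u) : False := by
  obtain ⟨F, _, _, hF, ⟨e⟩⟩ := hg.real
  have h := ufacts F
  rw [hF] at h
  have hu : 2 ≤ u := by rw [← hF]; exact Fintype.one_lt_card
  refine core7 R (u := u) ⟨?_, ?_, ?_⟩ hu ((R.hp.coprime_iff_not_dvd).2 hv)
  · intro i hi x r hr hx
    rw [← MulEquiv.orderOf_eq e] at hx ⊢
    exact h.tor i hi (e x) r hr hx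
  · intro i hi
    obtain ⟨x, hx⟩ := h.elt i hi
    exact ⟨e.symm x, by rw [MulEquiv.orderOf_eq, hx]⟩
  · intro r hr h8 hd
    rw [Nat.card_congr e.toEquiv] at hd
    rcases h.adj r hr h8 hd with h1 | ⟨⟨x, hx, hx'⟩, ⟨y, hy, hy'⟩⟩
    · exact Or.inl h1
    · refine Or.inr ⟨⟨e.symm x, ?_, ?_⟩, ⟨e.symm y, ?_, ?_⟩⟩
      · rw [MulEquiv.orderOf_eq]; exact hx
      · rw [MulEquiv.orderOf_eq]; exact hx'
      · rw [MulEquiv.orderOf_eq]; exact hy
      · rw [MulEquiv.orderOf_eq]; exact hy'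

end Cfsg.Agent.R2.Spec.X1.E7
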