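import Cfsg.Agent.R2.Spec.X1.E7.Def
import Cfsg.Agent.H500.E7.Row
import Cfsg.Agent.H962.E7.FactsE8
import Cfsg.Agent.H436.Names

/-!
# `E₇(q)`, `q` odd: the row `E₈(u)` (helper13, S3435; after helper500, S3482)
-/

set_option autoImplicit false

namespace Cfsg.Agent.R2.Spec.X1.E7

open Cfsg Cfsg.Agent.H436 Cfsg.Agent.H962.E7 Cfsg.Agent.OrdDiv
open Cfsg.Agent.H500.E7 (FE8 I8 Ph Iso8 cast15 cast20 cast24 cast30 Ph_bd low_mul iso_of_nadj exists_mul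
  prim_dvd_Ph ne_of_class q_small xb key low_one fin_seven abs_sub_le' six_le TT_two)
open Cfsg.Agent.H627.E7 (NN_pos prim_of_dvd_NN dvd_NN three_lt C4_sub exists_prim8)

universe w

/-! ### arithmetic -/

theorem q_le8 {q i : ℕ} (hi : i ∈ C4) (hq : 7 ≤ q) : q ^ 6 ≤ 8 * NN q i := by
  have h1 := H334.E7.Size.pn_le (q := q) (by omega) hi
  have h4 := H627.E7.mem_C4.1 hi
  rcases h4 with rfl | rfl | h4 | h4
  · change q ^ 7 - 1 ≤ NN q 7 * ((q - 1) * 7) at h1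
    obtain ⟨t, rfl⟩ : ∃ t, q = t + 1 := ⟨q - 1, by omega⟩
    rw [Nat.add_sub_cancel] at h1
    have h2 : t * (t + 1) ^ 6 ≤ (t + 1) ^ 7 - 1 := by
      have : 1 ≤ (t + 1) ^ 6 := Nat.one_le_pow _ _ (by omega)
      have : (t + 1) ^ 7 = t * (t + 1) ^ 6 + (t + 1) ^ 6 := by ring
      omega
    have h3 : t * (t + 1) ^ 6 ≤ t * (7 * NN (t + 1) 7) := by
      refine h2.trans (h1.trans (le_of_eq (by ring)))
    have h4 := Nat.le_of_mul_le_mul_left h3 (by omega)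
    omega
  · change (q - 1) * (q ^ 6 + q ^ 3 + 1) ≤ NN q 9 * ((q - 1) * 3) at h1
    have h3 : (q - 1) * (q ^ 6 + q ^ 3 + 1) ≤ (q - 1) * (3 * NN q 9) := h1.trans (le_of_eq (by ring))
    have h4 := Nat.le_of_mul_le_mul_left h3 (by omega)
    omega
  · exact H627.E7.q_le (Or.inl h4) hq
  · exact H627.E7.q_le (Or.inr h4) hq

/-- the computable form -/
def phN (a u : ℕ) : ℕ :=
  if a = 15 then (u ^ 8 + u ^ 5 + u ^ 3 + 1) - (u ^ 7 + u ^ 4 + u)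
  else if a = 20 then (u ^ 8 + u ^ 4 + 1) - (u ^ 6 + u ^ 2)
  else if a = 24 then (u ^ 8 + 1) - u ^ 4
  else (u ^ 8 + u ^ 7 + u + 1) - (u ^ 5 + u ^ 4 + u ^ 3)

theorem phN_eq {a u : ℕ} (ha : a ∈ I8) (hu : 2 ≤ u) : Ph a u = phN a u := by
  have m : ∀ {i j : ℕ}, i ≤ j → u ^ i ≤ u ^ j := fun h => Nat.pow_le_pow_right (by omega) h
  have m78 := m (show 7 ≤ 8 by norm_num)
  have m45 := m (show 4 ≤ 5 by norm_num)
  have m13 : u ≤ u ^ 3 := Nat.le_self_pow (by norm_num) u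
  have m68 := m (show 6 ≤ 8 by norm_num)
  have m24 := m (show 2 ≤ 4 by norm_num)
  have m48 := m (show 4 ≤ 8 by norm_num)
  have m57 := m (show 5 ≤ 7 by norm_num)
  have m3 : u ^ 4 + u ^ 3 ≤ u ^ 8 := by
    have h1 : u ^ 3 ≤ u ^ 4 := m (by norm_num)
    have h2 : u ^ 4 * 2 ≤ u ^ 4 * u ^ 4 := Nat.mul_le_mul_left _ (hu.trans (Nat.le_self_pow (by norm_num) u))
    have h3 : u ^ 8 = u ^ 4 * u ^ 4 := by ring
    omega
  rw [H500.E7.mem_I8] at ha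
  zify
  rcases ha with rfl | rfl | rfl | rfl
  · rw [cast15 hu, phN, if_pos rfl, Nat.cast_sub (by omega)]
    push_cast
    ring
  · rw [cast20 hu, phN, if_neg (by norm_num), if_pos rfl, Nat.cast_sub (by omega)]
    push_cast
    ring
  · rw [cast24 hu, phN, if_neg (by norm_num), if_neg (by norm_num), if_pos rfl, Nat.cast_sub (by omega)]
    push_cast
    ring
  · rw [cast30 hu, phN, if_neg (by norm_num), if_neg (by norm_num), if_neg (by norm_num), Nat.cast_sub (by omega)]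
    push_cast
    ring

def chkU (n u : ℕ) : Bool := decide (u < 2) ||
  (decide (phN 15 u % n ≠ 0) && decide (phN 20 u % n ≠ 0) && decide (phN 24 u % n ≠ 0) && decide (phN 30 u % n ≠ 0))

def chkQ (q : ℕ) : Bool := (List.range 34).all fun u => chkU (NN q (if q % 4 = 1 then 14 else 7)) u

theorem chk1 : ((List.range 160).all fun q => decide (q < 3) || decide (q % 2 = 0) || chkQ q) = true := by
  decide +kernel

theorem no_small {s : Bool} {q u a : ℕ} (h4 : q % 4 = md s) (hq3 : 3 ≤ q) (hq : q < 160) (hu : 2 ≤ u) (hu' : u < 34)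
    (ha : a ∈ I8) : ¬ NN q (t1 s) ∣ Ph a u := by
  rw [phN_eq ha hu]
  intro hd
  have h1 := List.all_eq_true.1 chk1 q (List.mem_range.2 hq)
  have ho := odd_of h4
  simp only [Bool.or_eq_true, decide_eq_true_eq] at h1
  have h2 : chkQ q = true := by
    rcases h1 with (h1 | h1) | h1
    · omega
    · omega
    · exact h1
  have h3 := List.all_eq_true.1 h2 u (List.mem_range.2 hu')
  have e : NN q (if q % 4 = 1 then 14 else 7) = NN q (t1 s) := by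
    cases s
    · simp only [md, Bool.false_eq_true, if_false] at h4
      rw [if_neg (by omega)]
      rfl
    · simp only [md, if_true] at h4
      rw [if_pos h4]
      rfl
  rw [e, chkU] at h3
  simp only [Bool.or_eq_true, Bool.and_eq_true, decide_eq_true_eq] at h3
  rcases h3 with h3 | ⟨⟨⟨k1, k2⟩, k3⟩, k4⟩
  · omega
  · rw [H500.E7.mem_I8] at ha
    rcases ha with rfl | rfl | rfl | rfl
    · exact k1 (Nat.mod_eq_zero_of_dvd hd)
    · exact k2 (Nat.mod_eq_zero_of_dvd hd)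
    · exact k3 (Nat.mod_eq_zero_of_dvd hd)
    · exact k4 (Nat.mod_eq_zero_of_dvd hd)

/-- class 9 or 18 isolated -/
theorem fin_nine {q A B Fb Fc x : ℤ} (hx : 6 ≤ x) (hq : 13 ≤ q) (hB : 0 ≤ B)
    (hb : x ^ 7 * (x - 1) ≤ Fb ∧ Fb ≤ x ^ 7 * (x + 1)) (hc : x ^ 7 * (x - 1) ≤ Fc ∧ Fc ≤ x ^ 7 * (x + 1))
    (h : A * Fb - B * Fc = 1) (hL : 2 * x ^ 2 * (x ^ 2 - 1) - 1 ≤ |A - B|)
    (hBF : 2 * (B * Fc) ≤ q ^ 9) (hF : q ^ 6 - q ^ 3 + 1 ≤ 3 * (x ^ 7 * (x + 1))) : False := by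
  obtain ⟨L, hLdef⟩ : ∃ L, L = 2 * x ^ 2 * (x ^ 2 - 1) - 1 := ⟨_, rfl⟩
  rw [← hLdef] at hL
  have hx2 : 36 ≤ x ^ 2 := by nlinarith
  have hL0 : 0 ≤ L := by
    rw [hLdef]
    nlinarith
  have hx7 : 0 < x ^ 7 := by positivity
  have hFb0 : 0 ≤ Fb := le_trans (mul_nonneg hx7.le (by linarith)) hb.1
  -- `L (x - 1) ≤ 2 B`
  have h1 : |A - B| * Fb ≤ 1 + B * (2 * x ^ 7) := by
    have e1 : (A - B) * Fb = 1 + B * (Fc - Fb) := by linarith
    have e2 : |A - B| * Fb = |(A - B) * Fb| := by rw [abs_mul, abs_of_nonneg hFb0]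
    rw [e2, e1]
    have e3 : |Fc - Fb| ≤ 2 * x ^ 7 := by
      rw [abs_le]
      constructor <;> linarith [hb.1, hb.2, hc.1, hc.2]
    calc |1 + B * (Fc - Fb)| ≤ |1| + |B * (Fc - Fb)| := abs_add_le _ _
      _ = 1 + B * |Fc - Fb| := by rw [abs_one, abs_mul, abs_of_nonneg hB]
      _ ≤ _ := by linarith [mul_le_mul_of_nonneg_left e3 hB]
  have h2 : L * (x - 1) ≤ 2 * B := by
    have e1 : L * (x ^ 7 * (x - 1)) ≤ 1 + B * (2 * x ^ 7) := by
      calc L * (x ^ 7 * (x - 1)) ≤ |A - B| * Fb :=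
            mul_le_mul hL hb.1 (mul_nonneg hx7.le (by linarith)) (abs_nonneg _)
        _ ≤ _ := h1
    have e2 : x ^ 7 * (L * (x - 1) - 2 * B) ≤ 1 := by linarith
    by_contra hlt
    push Not at hlt
    have e3 : x ^ 7 * 1 ≤ x ^ 7 * (L * (x - 1) - 2 * B) := mul_le_mul_of_nonneg_left (by omega) hx7.le
    have e4 : (6 : ℤ) ^ 7 ≤ x ^ 7 := by gcongr
    norm_num at e4
    linarith
  -- `L (x - 1)² x ^ 7 ≤ q ^ 9`
  have h3 : L * (x - 1) * (x ^ 7 * (x - 1)) ≤ q ^ 9 := by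
    have e0 : 0 ≤ x ^ 7 * (x - 1) := mul_nonneg hx7.le (by linarith)
    calc L * (x - 1) * (x ^ 7 * (x - 1)) ≤ 2 * B * (x ^ 7 * (x - 1)) := mul_le_mul_of_nonneg_right h2 e0
      _ ≤ 2 * B * Fc := mul_le_mul_of_nonneg_left hc.1 (by linarith)
      _ = 2 * (B * Fc) := by ring
      _ ≤ q ^ 9 := hBF
  have hq0 : 0 ≤ q := by linarith
  have h4 : 1000 * q ^ 6 ≤ 3002 * (x ^ 7 * (x + 1)) := by
    have e1 : (13 : ℤ) ^ 3 ≤ q ^ 3 := by gcongr
    norm_num at e1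
    have e2 : q ^ 6 = q ^ 3 * q ^ 3 := by ring
    have e3 : 2197 * q ^ 3 ≤ q ^ 3 * q ^ 3 := mul_le_mul_of_nonneg_right e1 (by positivity)
    nlinarith
  have h5 : (L * (x - 1) * (x ^ 7 * (x - 1))) ^ 2 ≤ (q ^ 6) ^ 3 := by
    have e1 : (q ^ 6) ^ 3 = (q ^ 9) ^ 2 := by ring
    rw [e1]
    have e2 : 0 ≤ L * (x - 1) * (x ^ 7 * (x - 1)) := by
      have : 0 ≤ x - 1 := by linarith
      positivity
    exact pow_le_pow_left₀ e2 h3 2
  have h6 : (1000 * q ^ 6) ^ 3 ≤ (3002 * (x ^ 7 * (x + 1))) ^ 3 := pow_le_pow_left₀ (by positivity) h4 3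
  have h7 : x ^ 14 * ((L * (x - 1) ^ 2) ^ 2) ≤ x ^ 14 * (28 * (x ^ 7 * (x + 1) ^ 3)) := by
    have e1 : x ^ 14 * ((L * (x - 1) ^ 2) ^ 2) = (L * (x - 1) * (x ^ 7 * (x - 1))) ^ 2 := by ring
    have e2 : x ^ 14 * (28 * (x ^ 7 * (x + 1) ^ 3)) = 28 * (x ^ 7 * (x + 1)) ^ 3 := by ring
    rw [e1, e2]
    have e3 : 0 ≤ (x ^ 7 * (x + 1)) ^ 3 := by positivity
    have e4 : (1000 * q ^ 6) ^ 3 = 1000000000 * (q ^ 6) ^ 3 := by ring
    have e5 : (3002 * (x ^ 7 * (x + 1))) ^ 3 = 27054036008 * (x ^ 7 * (x + 1)) ^ 3 := by ring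
    rw [e4, e5] at h6
    linarith
  have h8 : (L * (x - 1) ^ 2) ^ 2 ≤ 28 * (x ^ 7 * (x + 1) ^ 3) := le_of_mul_le_mul_left h7 (by positivity)
  rw [hLdef] at h8
  obtain ⟨t, rfl⟩ : ∃ t : ℤ, x = t + 6 := ⟨x - 6, by ring⟩
  have ht : 0 ≤ t := by linarith
  have h9 : 0 < ((2 * (t + 6) ^ 2 * ((t + 6) ^ 2 - 1) - 1) * (t + 6 - 1) ^ 2) ^ 2 - 28 * ((t + 6) ^ 7 * (t + 6 + 1) ^ 3) := by
    ring_nf
    positivity
  linarith

/-- classes 18, 9 both isolated -/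
theorem fin_nine' {u q Y Z b c : ℕ} (hq13 : 13 ≤ q) (hu6 : 6 ≤ u) (hb : b ∈ I8) (hc : c ∈ I8)
    (h1 : 2 * (Ph b u * Y) = (q + 1) * (q ^ 6 - q ^ 3 + 1)) (h2 : 2 * (Ph c u * Z) = (q - 1) * (q ^ 6 + q ^ 3 + 1))
    (h4 : (q : ℤ) ^ 6 - (q : ℤ) ^ 3 + 1 ≤ 3 * ((u : ℤ) ^ 7 * ((u : ℤ) + 1))) : False := by
  have hq36 : q ^ 3 ≤ q ^ 6 := Nat.pow_le_pow_right (by omega) (by norm_num)
  have h1 : (2 : ℤ) * ((Ph b u : ℤ) * Y) = ((q : ℤ) + 1) * ((q : ℤ) ^ 6 - (q : ℤ) ^ 3 + 1) := by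
    have h1 : ((2 * (Ph b u * Y) : ℕ) : ℤ) = (((q + 1) * (q ^ 6 - q ^ 3 + 1) : ℕ) : ℤ) := by rw [h1]
    rw [Nat.cast_mul, Nat.cast_mul, Nat.cast_mul, Nat.cast_add, Nat.cast_add, Nat.cast_sub hq36] at h1
    push_cast at h1
    exact h1
  have h2 : (2 : ℤ) * ((Ph c u : ℤ) * Z) = ((q : ℤ) - 1) * ((q : ℤ) ^ 6 + (q : ℤ) ^ 3 + 1) := by
    have h1 : ((2 * (Ph c u * Z) : ℕ) : ℤ) = (((q - 1) * (q ^ 6 + q ^ 3 + 1) : ℕ) : ℤ) := by rw [h2]
    rw [Nat.cast_mul, Nat.cast_mul, Nat.cast_mul, Nat.cast_sub (by omega)] at h1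
    push_cast at h1
    exact h1
  have e1 : 2 * (((q : ℤ) ^ 2 - q + 1) * Y * (Ph b u : ℤ)) = (q : ℤ) ^ 9 + 1 := by
    have : 2 * (((q : ℤ) ^ 2 - q + 1) * Y * (Ph b u : ℤ)) = ((q : ℤ) ^ 2 - q + 1) * (2 * ((Ph b u : ℤ) * Y)) := by ring
    rw [this, h1]
    ring
  have e2 : 2 * (((q : ℤ) ^ 2 + q + 1) * Z * (Ph c u : ℤ)) = (q : ℤ) ^ 9 - 1 := by
    have : 2 * (((q : ℤ) ^ 2 + q + 1) * Z * (Ph c u : ℤ)) = ((q : ℤ) ^ 2 + q + 1) * (2 * ((Ph c u : ℤ) * Z)) := by ring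
    rw [this, h2]
    ring
  have heq : (((q : ℤ) ^ 2 - q + 1) * Y) * (Ph b u : ℤ) - (((q : ℤ) ^ 2 + q + 1) * Z) * (Ph c u : ℤ) = 1 := by
    linarith
  have hx6 : (6 : ℤ) ≤ u := by exact_mod_cast hu6
  obtain ⟨t', ht'⟩ := key hb hc (by omega) heq
  rw [one_mul] at ht'
  have hL := low_one (by linarith) ht'
  exact fin_nine (q := (q : ℤ)) hx6 (by exact_mod_cast hq13) (by positivity) (Ph_bd hb (by omega))
    (Ph_bd hc (by omega)) heq hL (by linarith) h4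

/-! ### groups -/

variable {s : Bool} {p k v u : ℕ} {S : Type w} [Group S] [Finite S]

omit [Finite S] in
/-- the order of the torus of `E₈(u)` -/
theorem tor_dvd (R : RowS s p k S) (E : FE8 v u S) (hu2 : 2 ≤ u) {i a r : ℕ} (hi : i ∈ C4) (hr : Prim (p ^ k) i r)
    (ha : a ∈ I8) (hra : Prim u a r) : Ph a u ∣ TT (p ^ k) i := by
  obtain ⟨x, hx⟩ := E.exi a ha
  rw [← hx]
  refine R.tor i hi x r hr ?_
  rw [hx]
  exact prim_dvd_Ph hu2 ha hra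

omit [Finite S] in
theorem NN_dvd8 (R : RowS s p k S) (E : FE8 v u S) {i a r : ℕ} (hi : i ∈ C4) (hr : Prim (p ^ k) i r)
    (hF : Fl S (p ^ k) i) (ha : a ∈ I8) (hra : Prim u a r) : NN (p ^ k) i ∣ Ph a u := by
  obtain ⟨x, hx⟩ := hF.elt hi
  rw [← hx]
  refine E.top a ha x r hra ?_
  rw [hx]
  exact dvd_NN hi (two_le R) hr

theorem ne_class (R : RowS s p k S) (E : FE8 v u S) (hu2 : 2 ≤ u) {i j a r t : ℕ} (hi : i ∈ C8) (hj : j ∈ C8)
    (hij : i ≠ j) (hr : Prim (p ^ k) i r) (ht : Prim (p ^ k) j t) (ha : a ∈ I8) (hra : Prim u a r)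
    (hta : Prim u a t) : False := by
  obtain ⟨x, hx⟩ := E.exi a ha
  refine R.nad i hi j hj hij r t hr ht ?_
  refine exists_mul hr.prime ht.prime ?_ (x := x) ?_ ?_
  · rintro rfl
    exact hij (hr.unique ht)
  · rw [hx]; exact prim_dvd_Ph hu2 ha hra
  · rw [hx]; exact prim_dvd_Ph hu2 ha hta

/-- another class which is not isolated -/
theorem exists_other (R : RowS s p k S) (E : FE8 v u S) (hu2 : 2 ≤ u) {j : ℕ} (hj : j ∈ C8) :
    ∃ i ∈ C8, i ≠ j ∧ ∃ r, Prim (p ^ k) i r ∧ r ∣ Nat.card S ∧ ¬ Iso8 u r := by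
  classical
  by_contra hcon
  push Not at hcon
  obtain ⟨C, hC, hcard, hF⟩ : ∃ C : Finset ℕ, C ⊆ C8.erase j ∧ 6 ≤ C.card ∧ ∀ i ∈ C, Fl S (p ^ k) i := by
    by_cases h : ∀ i ∈ C8, Fl S (p ^ k) i
    · refine ⟨C8.erase j, Finset.Subset.refl _, ?_, fun i hi => h i (Finset.mem_of_mem_erase hi)⟩
      rw [Finset.card_erase_of_mem hj]
      decide
    · push Not at h
      obtain ⟨m, hm, hnm⟩ := h
      refine ⟨(C8.erase j).erase m, Finset.erase_subset _ _, ?_, fun i hi => ?_⟩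
      · have h1 := Finset.pred_card_le_card_erase (s := C8.erase j) (a := m)
        rw [Finset.card_erase_of_mem hj] at h1
        have h2 : C8.card = 8 := by decide
        omega
      · obtain ⟨h1, h2⟩ := Finset.mem_erase.1 hi
        exact (R.one i (Finset.mem_of_mem_erase h2) m hm h1).resolve_right hnm
  have hC8 : ∀ i ∈ C, i ∈ C8 := fun i hi => Finset.mem_of_mem_erase (hC hi)
  have hex : ∀ i ∈ C, ∃ r, Prim (p ^ k) i r ∧ ∃ a, a ∈ I8 ∧ Prim u a r := by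
    intro i hi
    obtain ⟨r, hr⟩ := exists_prim8 (hC8 i hi) (two_le R)
    obtain ⟨a, ha, hra⟩ := hcon i (hC8 i hi) (Finset.ne_of_mem_erase (hC hi)) r hr ((hF i hi).dvd r hr)
    exact ⟨r, hr, a, ha, hra⟩
  choose! r hr a ha hra using hex
  have h1 : C.card ≤ I8.card := by
    refine Finset.card_le_card_of_injOn a (fun i hi => ha i hi) ?_
    intro i hi i' hi' h
    by_contra hne
    have h2 := hra i' hi'
    rw [← h] at h2
    exact ne_class R E hu2 (hC8 i hi) (hC8 i' hi') hne (hr i hi) (hr i' hi') (ha i hi) (hra i hi) h2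
  have h2 : I8.card = 4 := by decide
  omega

/-- `u² - 1` divides `(q ∓ 1) g` -/
theorem sq_dvd (R : RowS s p k S) (E : FE8 v u S) (hu2 : 2 ≤ u) {j t C : ℕ} (hj : j ∈ C4)
    (ht : Prim (p ^ k) j t) (htS : t ∣ Nat.card S) (hti : ¬ Iso8 u t) (hC : TT (p ^ k) j = NN (p ^ k) j * C) :
    (u - 1) * (u + 1) ∣ 2 * C := by
  have hj8 := C4_sub hj
  obtain ⟨i, hi, hij, s', hs, hsS, hsi⟩ := exists_other R E hu2 hj8
  have hts : t ≠ s' := ne_of_class (Ne.symm hij) ht hs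
  have hsv : s' ≠ v := by
    intro h
    have htv : t ≠ v := fun h' => hts (h'.trans h.symm)
    obtain ⟨z, hz⟩ := low_mul E ht.prime htS htv hti hs.prime (Or.inl (by rw [h])) hts
    exact R.nad j hj8 i hi (Ne.symm hij) t s' ht hs ⟨z, hz⟩
  have htv : t ≠ v := by
    intro h
    obtain ⟨z, hz⟩ := low_mul E hs.prime hsS hsv hsi ht.prime (Or.inl (by rw [h])) hts.symm
    exact R.nad i hi j hj8 hij s' t hs ht ⟨z, hz⟩
  have htn : ∀ {n : ℕ}, n = u - 1 ∨ n = u + 1 → ¬ t ∣ n := by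
    intro n hn hd
    obtain ⟨z, hz⟩ := low_mul E hs.prime hsS hsv hsi ht.prime (Or.inr (by
      rcases hn with rfl | rfl
      · exact Or.inl hd
      · exact Or.inr hd)) hts.symm
    exact R.nad i hi j hj8 hij s' t hs ht ⟨z, hz⟩
  have hsn : ∀ {n : ℕ}, n = u - 1 ∨ n = u + 1 → ¬ s' ∣ n := by
    intro n hn hd
    obtain ⟨z, hz⟩ := low_mul E ht.prime htS htv hti hs.prime (Or.inr (by
      rcases hn with rfl | rfl
      · exact Or.inl hd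
      · exact Or.inr hd)) hts
    exact R.nad j hj8 i hi (Ne.symm hij) t s' ht hs ⟨z, hz⟩
  have key : ∀ {n : ℕ}, n = u - 1 ∨ n = u + 1 → n ∣ C := by
    intro n hn
    obtain ⟨x, hx, hy⟩ := E.low t ht.prime htS htv fun i hi h => hti ⟨i, hi, h⟩
    obtain ⟨y, hy1, hy2⟩ := hy n (by
      rcases hn with rfl | rfl <;> simp)
    have hcop : Nat.Coprime t n := (ht.prime.coprime_iff_not_dvd).2 (htn hn)
    have hxy : orderOf (x * y) = t * n := by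
      rw [hy2.orderOf_mul_eq_mul_orderOf_of_coprime (by rw [hx, hy1]; exact hcop), hx, hy1]
    have h1 := R.tor j hj (x * y) t ht (by rw [hxy]; exact dvd_mul_right _ _)
    rw [hxy] at h1
    have h2 : n ∣ NN (p ^ k) j * C := by
      rw [← hC]
      exact (dvd_mul_left _ _).trans h1
    refine Nat.Coprime.dvd_of_dvd_mul_left ?_ h2
    rw [Nat.coprime_iff_gcd_eq_one]
    by_contra hne
    obtain ⟨l, hl, hld⟩ := Nat.exists_prime_and_dvd hne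
    have hl1 : l ∣ n := hld.trans (Nat.gcd_dvd_left _ _)
    have hl2 := prim_of_dvd_NN hj (two_le R) hl (hld.trans (Nat.gcd_dvd_right _ _))
    have hsl : s' ≠ l := by
      rintro rfl
      exact hsn hn hl1
    obtain ⟨z, hz⟩ := low_mul E hs.prime hsS hsv hsi hl (Or.inr (by
      rcases hn with rfl | rfl
      · exact Or.inl hl1
      · exact Or.inr hl1)) hsl
    exact R.nad i hi j hj8 hij s' l hs hl2 ⟨z, hz⟩
  have h1 := key (Or.inl rfl)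
  have h2 := key (Or.inr rfl)
  have h3 : Nat.gcd (u - 1) (u + 1) ∣ 2 := by
    have h4 := Nat.dvd_sub (Nat.gcd_dvd_right (u - 1) (u + 1)) (Nat.gcd_dvd_left (u - 1) (u + 1))
    have h5 : u + 1 - (u - 1) = 2 := by omega
    rwa [h5] at h4
  rw [← Nat.gcd_mul_lcm]
  exact Nat.mul_dvd_mul h3 (Nat.lcm_dvd h1 h2)

/-- `q < 160` -/
theorem q_small' {q x : ℤ} (hx : 6 ≤ x) (hq : 13 ≤ q) (h1 : (x - 1) * (x + 1) ≤ 7 * (q + 1))
    (h2 : q ^ 6 ≤ 8 * (x ^ 7 * (x + 1))) : q < 160 := by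
  by_contra hlt
  push Not at hlt
  have h3 : 50 * x ^ 2 ≤ 353 * q := by nlinarith
  have h4 : (50 * x ^ 2) ^ 4 ≤ (353 * q) ^ 4 := pow_le_pow_left₀ (by positivity) h3 4
  have h5 : 6 * (8 * (x ^ 7 * (x + 1))) ≤ 56 * (x ^ 2) ^ 4 := by
    have h6 : 0 ≤ x ^ 7 := by positivity
    have h7 : 6 * (x + 1) ≤ 7 * x := by linarith
    have h8 : (x ^ 2) ^ 4 = x ^ 7 * x := by ring
    rw [h8]
    nlinarith [mul_le_mul_of_nonneg_left h7 h6]
  have h6 : 6250000 * (6 * q ^ 6) ≤ 56 * (353 * q) ^ 4 := by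
    have e : (50 * x ^ 2) ^ 4 = 6250000 * (x ^ 2) ^ 4 := by ring
    rw [e] at h4
    linarith
  have h7 : q ^ 6 = q ^ 2 * q ^ 4 := by ring
  have h8 : (353 * q) ^ 4 = 15527402881 * q ^ 4 := by ring
  rw [h7, h8] at h6
  have h9 : 0 < q ^ 4 := by positivity
  have h10 : (25600 : ℤ) ≤ q ^ 2 := by nlinarith
  nlinarith

/-- a bottom class not isolated -/
theorem fin_low (R : RowS s p k S) (E : FE8 v u S) (hq13 : 13 ≤ p ^ k) (hu6 : 6 ≤ u)
    {a : ℕ} (ha : a ∈ I8) (hNa : NN (p ^ k) (t1 s) ∣ Ph a u)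
    (hq6 : (p ^ k : ℤ) ^ 6 ≤ 8 * ((u : ℤ) ^ 7 * ((u : ℤ) + 1)))
    {j t : ℕ} (hj : j ∈ C4) (ht : Prim (p ^ k) j t) (htS : t ∣ Nat.card S) (hti : ¬ Iso8 u t) : False := by
  -- the cofactor
  have e1 := H334.E7.Lay.nn_mul (q := p ^ k) (two_le R) hj
  have e3 := H334.E7.Lay.tt_mul (u := p ^ k) (by have := two_le R; omega) hj
  rw [gcd_two R.hs] at e3
  have hLp : 0 < H334.E7.Lay.LL (p ^ k) j := by
    unfold H334.E7.Lay.LL
    split_ifs <;> omega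
  have hLe : 2 ∣ H334.E7.Lay.LL (p ^ k) j := by
    have := odd_of R.hs
    unfold H334.E7.Lay.LL
    split_ifs <;> omega
  have hLle : H334.E7.Lay.LL (p ^ k) j ≤ p ^ k + 1 := by
    unfold H334.E7.Lay.LL
    split_ifs <;> omega
  obtain ⟨h, hh⟩ := hLe
  set g := Nat.gcd (H334.E7.Lay.ee j) (H334.E7.Lay.LL (p ^ k) j) with hg
  have hg0 : 0 < g := Nat.gcd_pos_of_pos_right _ hLp
  have hg7 : g ≤ 7 := (H334.E7.Lay.gcd_le_ee (p ^ k) j).trans (by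
    unfold H334.E7.Lay.ee
    split_ifs <;> norm_num)
  have hTC : TT (p ^ k) j = NN (p ^ k) j * (h * g) := by
    have h1 : 2 * TT (p ^ k) j = 2 * (NN (p ^ k) j * (h * g)) := by
      rw [e3, ← e1, hh]
      ring
    omega
  have h1 := sq_dvd R E (by omega) hj ht htS hti hTC
  have h2 := Nat.le_of_dvd (by
    have : 0 < h := by omega
    positivity) h1
  have h3 : (u - 1) * (u + 1) ≤ 7 * (p ^ k + 1) := by
    calc (u - 1) * (u + 1) ≤ 2 * (h * g) := h2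
      _ = H334.E7.Lay.LL (p ^ k) j * g := by rw [hh]; ring
      _ ≤ (p ^ k + 1) * 7 := Nat.mul_le_mul hLle hg7
      _ = _ := by ring
  have h4 : ((u : ℤ) - 1) * ((u : ℤ) + 1) ≤ 7 * (((p : ℤ) ^ k) + 1) := by
    have h5 : (((u - 1) * (u + 1) : ℕ) : ℤ) ≤ ((7 * (p ^ k + 1) : ℕ) : ℤ) := by exact_mod_cast h3
    rw [Nat.cast_mul, Nat.cast_mul, Nat.cast_sub (by omega)] at h5
    push_cast at h5
    exact h5
  have h5 := q_small' (q := (p : ℤ) ^ k) (x := u) (by exact_mod_cast hu6) (by exact_mod_cast hq13) h4 hq6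
  have h6 : p ^ k < 160 := by exact_mod_cast h5
  have h7 : u < 34 := by
    by_contra hlt
    push Not at hlt
    have h8 : 33 * 35 ≤ (u - 1) * (u + 1) := Nat.mul_le_mul (by omega) (by omega)
    omega
  exact no_small R.hs (three_le R) h6 (by omega) h7 ha hNa

/-- the row -/
theorem row_of (R : RowS s p k S) (E : FE8 v u S) (hv : v.Prime) (hu : ∃ f, 1 ≤ f ∧ u = v ^ f) : False := by
  have hq2 := two_le R
  have hq3 := three_le R
  have hu2 : 2 ≤ u := by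
    obtain ⟨f, hf, rfl⟩ := hu
    exact hv.two_le.trans (Nat.le_self_pow (by omega) v)
  have i1 := isT_t1 s
  have i2 := isT_t2 s
  obtain ⟨r, hr⟩ := ex8 R i1.c8
  obtain ⟨t, ht⟩ := ex8 R i2.c8
  have hF14 := R.top _ i1
  have hF18 := R.top _ i2
  obtain ⟨a, ha, hra⟩ := iso_of_nadj E hv hu hr.prime (hF14.dvd r hr) (by
    have := three_lt i1.c8 hq2 hr
    omega) (nadj_two R i1 hr)
  obtain ⟨b, hb, htb⟩ := iso_of_nadj E hv hu ht.prime (hF18.dvd t ht) (by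
    have := three_lt i2.c8 hq2 ht
    omega) (nadj_two R i2 ht)
  have hTa := tor_dvd R E hu2 i1.c4 hr ha hra
  obtain ⟨Y, hY⟩ := tor_dvd R E hu2 i2.c4 ht hb htb
  have hNa := NN_dvd8 R E i1.c4 hr hF14 ha hra
  have hNb := NN_dvd8 R E i2.c4 ht hF18 hb htb
  have hPa : 0 < Ph a u := Cfsg.Agent.H416.Arith.c_pos a hu2
  have hPb : 0 < Ph b u := Cfsg.Agent.H416.Arith.c_pos b hu2
  rcases Nat.lt_or_ge (p ^ k) 13 with hsm | hq13
  · -- small fields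
    refine no_small R.hs hq3 (by omega) hu2 ?_ ha hNa
    by_contra hcon
    push Not at hcon
    have h1 := Nat.le_of_dvd (H334.E7.Size.tt_pos hq2 i1.c4) hTa
    have h2 := TT_le i1.c4 hq3 (gcd_two R.hs)
    have h3 : (p ^ k) ^ 7 ≤ 12 ^ 7 := Nat.pow_le_pow_left (by omega) 7
    have h4 := (Ph_bd ha hu2).1
    have h5 : (34 : ℤ) ≤ u := by exact_mod_cast hcon
    have h6 : (34 : ℤ) ^ 7 * 33 ≤ (u : ℤ) ^ 7 * ((u : ℤ) - 1) :=
      mul_le_mul (pow_le_pow_left₀ (by norm_num) h5 7) (by linarith) (by norm_num) (by positivity)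
    have h7 : 34 ^ 7 * 33 ≤ Ph a u := by
      have := h6.trans h4
      exact_mod_cast this
    norm_num at h3 h7
    omega
  obtain ⟨X, hX⟩ := hTa
  have hq6' : (p ^ k) ^ 6 ≤ 8 * Ph a u :=
    (q_le8 i1.c4 (by omega)).trans (Nat.mul_le_mul_left _ (Nat.le_of_dvd hPa hNa))
  have hq6 : ((p ^ k : ℕ) : ℤ) ^ 6 ≤ 8 * ((u : ℤ) ^ 7 * ((u : ℤ) + 1)) := by
    have h4 : ((p ^ k : ℕ) : ℤ) ^ 6 ≤ 8 * (Ph a u : ℤ) := by exact_mod_cast hq6'
    have h5 := (Ph_bd ha hu2).2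
    linarith
  have hu6 : 6 ≤ u := six_le hq13 hq6
  obtain ⟨hT7, hT9, hT14, hT18⟩ := TT_two hq2 (odd_of R.hs)
  -- bounds of the cofactors
  have bd : ∀ {i c Z : ℕ}, i ∈ C4 → c ∈ I8 → NN (p ^ k) i ∣ Ph c u → TT (p ^ k) i = Ph c u * Z →
      2 * Z ≤ 7 * (p ^ k + 1) := by
    intro i c Z hi hc hN hZ
    have hPc : 0 < Ph c u := Cfsg.Agent.H416.Arith.c_pos c hu2
    have e1 := H334.E7.Lay.nn_mul (q := p ^ k) hq2 hi
    have e3 := H334.E7.Lay.tt_mul (u := p ^ k) (by omega) hi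
    rw [gcd_two R.hs] at e3
    have h1 := xb (NN_pos hi hq2) hN hPc (X := Z)
      (M := H334.E7.Lay.LL (p ^ k) i * Nat.gcd (H334.E7.Lay.ee i) (H334.E7.Lay.LL (p ^ k) i)) (by rw [← hZ, e3, e1])
    have hLle : H334.E7.Lay.LL (p ^ k) i ≤ p ^ k + 1 := by
      unfold H334.E7.Lay.LL
      split_ifs <;> omega
    have hg7 : Nat.gcd (H334.E7.Lay.ee i) (H334.E7.Lay.LL (p ^ k) i) ≤ 7 :=
      (H334.E7.Lay.gcd_le_ee (p ^ k) i).trans (by
        unfold H334.E7.Lay.ee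
        split_ifs <;> norm_num)
    have h3 := Nat.mul_le_mul hLle hg7
    omega
  have hq7 : 1 ≤ (p ^ k) ^ 7 := Nat.one_le_pow _ _ (by omega)
  have hXb := bd i1.c4 ha hNa hX
  have hF9 : ((p ^ k : ℕ) : ℤ) ^ 6 - ((p ^ k : ℕ) : ℤ) ^ 3 + 1 ≤ 3 * ((u : ℤ) ^ 7 * ((u : ℤ) + 1)) := by
    have h1 := H334.E7.Lay.nn_gcd (q := p ^ k) (by omega) i2.c4
    have hg : Nat.gcd (H334.E7.Lay.ee (t2 s)) (H334.E7.Lay.LL (p ^ k) (t2 s)) ≤ 3 := by
      cases s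
      · exact Nat.gcd_le_left _ (by decide)
      · exact Nat.gcd_le_left _ (by decide)
    have h2 : (NN (p ^ k) (t2 s) : ℤ) * (Nat.gcd (H334.E7.Lay.ee (t2 s)) (H334.E7.Lay.LL (p ^ k) (t2 s)) : ℤ) ≤
        NN (p ^ k) (t2 s) * 3 := mul_le_mul_of_nonneg_left (by exact_mod_cast hg) (by positivity)
    rw [h1] at h2
    have h3 : ((p ^ k : ℕ) : ℤ) ^ 6 - ((p ^ k : ℕ) : ℤ) ^ 3 + 1 ≤ H334.E7.Lay.BZ ((p ^ k : ℕ) : ℤ) (t2 s) := by
      cases s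
      · change _ ≤ ((p ^ k : ℕ) : ℤ) ^ 6 + ((p ^ k : ℕ) : ℤ) ^ 3 + 1
        have : (0 : ℤ) ≤ ((p ^ k : ℕ) : ℤ) ^ 3 := by positivity
        linarith
      · exact le_rfl
    have h4 : (NN (p ^ k) (t2 s) : ℤ) ≤ Ph b u := by exact_mod_cast Nat.le_of_dvd hPb hNb
    have h5 := (Ph_bd hb hu2).2
    linarith
  have low : ∀ {j w : ℕ}, j ∈ C4 → Prim (p ^ k) j w → w ∣ Nat.card S → ¬ Iso8 u w → False := fun hj hw hwS hwi =>
    fin_low R E hq13 hu6 ha hNa (by exact_mod_cast hq6) hj hw hwS hwi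
  rcases R.one (b1 s) (isB_b1 s).c8 (b2 s) (isB_b2 s).c8 (b_ne s) with hF | hF
  · have j1 := isB_b1 s
    obtain ⟨w, hw⟩ := ex8 R j1.c8
    by_cases hwi : Iso8 u w
    swap
    · exact low j1.c4 hw (hF.dvd w hw) hwi
    obtain ⟨c, hc, hwc⟩ := hwi
    obtain ⟨Z, hZ⟩ := tor_dvd R E hu2 j1.c4 hw hc hwc
    have hNc := NN_dvd8 R E j1.c4 hw hF hc hwc
    have hZb := bd j1.c4 hc hNc hZ
    cases s
    · change TT (p ^ k) 7 = _ at hX
      change TT (p ^ k) 14 = _ at hZ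
      exact fin_seven hu6 hc ha hq6 (by rw [← hZ, hT14]) (by rw [← hX, hT7]) hq7 hZb hXb
    · change TT (p ^ k) 14 = _ at hX
      change TT (p ^ k) 7 = _ at hZ
      exact fin_seven hu6 ha hc hq6 (by rw [← hX, hT14]) (by rw [← hZ, hT7]) hq7 hXb hZb
  · have j2 := isB_b2 s
    obtain ⟨w, hw⟩ := ex8 R j2.c8
    by_cases hwi : Iso8 u w
    swap
    · exact low j2.c4 hw (hF.dvd w hw) hwi
    obtain ⟨c, hc, hwc⟩ := hwi
    obtain ⟨Z, hZ⟩ := tor_dvd R E hu2 j2.c4 hw hc hwc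
    cases s
    · change TT (p ^ k) 9 = _ at hY
      change TT (p ^ k) 18 = _ at hZ
      exact fin_nine' hq13 hu6 hc hb (by rw [← hZ, hT18]) (by rw [← hY, hT9]) hF9
    · change TT (p ^ k) 18 = _ at hY
      change TT (p ^ k) 9 = _ at hZ
      exact fin_nine' hq13 hu6 hb hc (by rw [← hY, hT18]) (by rw [← hZ, hT9]) hF9

/-- **`S` is not `E₈(u)`.** -/
theorem row_e8 {s : Bool} {p k u : ℕ} {S : Type w} [Group S] [Finite S] (R : RowS s p k S) (hg : IsNamed (.e8 u) S) :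
    False := by
  obtain ⟨v, f, hvp, hf, rfl⟩ := (isPrimePow_nat_iff _).1 (hg.cond : IsPrimePow u)
  exact row_of R (fE8 hvp ⟨f, hf, rfl⟩ hg) hvp ⟨f, hf, rfl⟩

end Cfsg.Agent.R2.Spec.X1.E7
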