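import Cfsg.Agent.R2.Spec.X1.E7.Def
import Cfsg.Agent.H196.E7.Rows

/-!
# `E₇(q)`, `q` odd: alternating, sporadic groups, exceptional groups of small rank (helper13, S3435; after helper196)
-/

set_option autoImplicit false

namespace Cfsg.Agent.R2.Spec.X1.E7

open Cfsg Cfsg.Agent.H436 Cfsg.Agent.H962.E7 Cfsg.Agent.H420.QR Cfsg.Agent.OrdDiv

universe u

variable {s : Bool} {p k : ℕ} {S : Type u} [Group S]

theorem gcd_pc {c : ℕ} (hc : c.Prime) (x : ℕ) : Nat.gcd c x = 1 ∨ Nat.gcd c x = c :=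
  (Nat.dvd_prime hc).1 (Nat.gcd_dvd_left c x)

/-- `NN q 7` and `NN q 9` are far apart -/
theorem NN_far79 {q : ℕ} (hq : 3 ≤ q) : NN q 7 + 3 < NN q 9 ∨ NN q 9 + 3 < NN q 7 := by
  have h7 := H334.E7.Lay.nn_mul (q := q) (by omega) (show 7 ∈ C4 by decide)
  have h9 := H334.E7.Lay.nn_mul (q := q) (by omega) (show 9 ∈ C4 by decide)
  change NN q 7 * ((q - 1) * Nat.gcd 7 (q - 1)) = q ^ 7 - 1 at h7
  change NN q 9 * ((q - 1) * Nat.gcd 3 (q - 1)) = (q - 1) * (q ^ 6 + q ^ 3 + 1) at h9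
  obtain ⟨t, rfl⟩ : ∃ t, q = t + 3 := ⟨q - 3, by omega⟩
  rw [show t + 3 - 1 = t + 2 by omega] at h7 h9
  have e7 : (t + 3) ^ 7 - 1 = (t + 2) * ((t + 3) ^ 6 + (t + 3) ^ 5 + (t + 3) ^ 4 + (t + 3) ^ 3 + (t + 3) ^ 2 + (t + 3) + 1) := by
    have : (t + 3) ^ 7 = (t + 2) * ((t + 3) ^ 6 + (t + 3) ^ 5 + (t + 3) ^ 4 + (t + 3) ^ 3 + (t + 3) ^ 2 + (t + 3) + 1) + 1 := by ring
    omega
  rw [e7] at h7
  have k7 : NN (t + 3) 7 * Nat.gcd 7 (t + 2) = (t + 3) ^ 6 + (t + 3) ^ 5 + (t + 3) ^ 4 + (t + 3) ^ 3 + (t + 3) ^ 2 + (t + 3) + 1 := by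
    apply Nat.eq_of_mul_eq_mul_left (show 0 < t + 2 by omega)
    rw [← h7]; ring
  have k9 : NN (t + 3) 9 * Nat.gcd 3 (t + 2) = (t + 3) ^ 6 + (t + 3) ^ 3 + 1 := by
    apply Nat.eq_of_mul_eq_mul_left (show 0 < t + 2 by omega)
    rw [← h9]; ring
  have hs : (0 : ℤ) ≤ t := by positivity
  have h2 : (0 : ℤ) ≤ (t : ℤ) ^ 2 := by positivity
  have h3 : (0 : ℤ) ≤ (t : ℤ) ^ 3 := by positivity
  have h4 : (0 : ℤ) ≤ (t : ℤ) ^ 4 := by positivity
  have h5 : (0 : ℤ) ≤ (t : ℤ) ^ 5 := by positivity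
  have h6 : (0 : ℤ) ≤ (t : ℤ) ^ 6 := by positivity
  zify at k7 k9
  ring_nf at k7 k9
  rcases gcd_pc (c := 7) (by norm_num) (t + 2) with g7 | g7 <;> rcases gcd_pc (c := 3) (by norm_num) (t + 2) with g3 | g3 <;>
    rw [show 2 + t = t + 2 by ring, g7] at k7 <;> rw [show 2 + t = t + 2 by ring, g3] at k9
  · right; zify; push_cast at k7 k9; ring_nf at k7 k9 ⊢; linarith
  · right; zify; push_cast at k7 k9; ring_nf at k7 k9 ⊢; linarith
  · left; zify; push_cast at k7 k9; ring_nf at k7 k9 ⊢; linarith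
  · left; zify; push_cast at k7 k9; ring_nf at k7 k9 ⊢; linarith

theorem NN_far (s : Bool) {q : ℕ} (hq : 3 ≤ q) : NN q (t1 s) + 3 < NN q (t2 s) ∨ NN q (t2 s) + 3 < NN q (t1 s) := by
  cases s
  · exact NN_far79 hq
  · exact H196.E7.NN_far (by omega)

theorem NN_big {q i : ℕ} (hi : i ∈ C4) (hq : 3 ≤ q) : 78 < NN q i := by
  have h1 := NN_ge hi hq
  have h2 : 3 ^ 6 ≤ q ^ 6 := Nat.pow_le_pow_left hq 6
  norm_num at h2
  omega

/-- **Alternating groups.** -/
theorem row_alt {m : ℕ} (R : RowS s p k S) (hg : IsNamed (.alt m) S) : False := by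
  obtain ⟨e⟩ : Nonempty (S ≃* ↥(alternatingGroup (Fin m))) := hg.real
  have hq := three_le R
  have key : ∀ i, IsT s i → m < NN (p ^ k) i + 4 ∧ NN (p ^ k) i ≤ m := by
    intro i hi
    have h1 := NN_big hi.c4 hq
    have hprim : ∀ r, r.Prime → r ∣ NN (p ^ k) i → Prim (p ^ k) i r := fun r hr hd =>
      H627.E7.prim_of_dvd_NN hi.c4 (by omega) hr hd
    have h14 : 7 ≤ i := by
      have := H627.E7.mem_C4.1 hi.c4
      omega
    obtain ⟨x, hx⟩ := (R.top i hi).elt hi.c4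
    have hx' : orderOf (e x) = NN (p ^ k) i := by rw [MulEquiv.orderOf_eq, hx]
    have hm : 7 ≤ m := by
      obtain ⟨r, hr, hrN⟩ := Nat.exists_prime_and_dvd (n := NN (p ^ k) i) (by omega)
      have h2 := H196.E7.lt_of_prim (hprim r hr hrN)
      have h3 : r ≤ m := H376.Coc.alt_dvd_le hr (hrN.trans (hx' ▸ orderOf_dvd_natCard (e x)))
      omega
    refine H196.E7.prime_of_order hm (by omega) (fun r hr hrN => ?_) hx'
    have h2 := H196.E7.lt_of_prim (hprim r hr hrN)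
    refine ⟨by omega, ?_⟩
    by_contra hlt
    obtain ⟨g, hg⟩ := H376.Coc.alt_adj_two (m := m) hr (by omega) (by omega)
    exact nadj_two R hi (hprim r hr hrN) ⟨e.symm g, by rw [MulEquiv.orderOf_eq, hg]⟩
  obtain ⟨a1, a2⟩ := key _ (isT_t1 s)
  obtain ⟨b1, b2⟩ := key _ (isT_t2 s)
  rcases NN_far s hq with h | h <;> omega

/-- **Sporadic groups and the Tits group, by order.** -/
theorem row_sporList (R : RowS s p k S) (hS : Nat.card S ∈ H437.sporList) : False := by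
  have hq := three_le R
  have hbd : ∀ r : ℕ, r.Prime → r ∣ Nat.card S → r ≤ 71 := fun r hr hd =>
    (Nat.Prime.dvd_factorial hr).1 (hd.trans (H196.E7.spor_smooth' _ hS))
  obtain ⟨h19, h703, h37⟩ := H196.E7.spor_nineteen _ hS
  have hi := isT_t2 s
  obtain ⟨x, hx⟩ := (R.top _ hi).elt hi.c4
  have hdvd : NN (p ^ k) (t2 s) ∣ Nat.card S := hx ▸ orderOf_dvd_natCard x
  have hpr : ∀ r : ℕ, r.Prime → r ∣ NN (p ^ k) (t2 s) → r = 19 ∨ r = 37 := by
    intro r hr hd
    have h1 := hbd r hr (hd.trans hdvd)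
    obtain ⟨t, ht⟩ := H196.E7.dvd_sub_one (H627.E7.prim_of_dvd_NN hi.c4 (by omega) hr hd)
    obtain ⟨t', ht'⟩ : 9 ∣ r - 1 := by
      refine Dvd.dvd.trans ?_ (Dvd.intro _ ht.symm)
      cases s <;> simp [t2]
    have h2 := hr.two_le
    have h3 : t' ≤ 7 := by omega
    interval_cases t'
    · omega
    · have : r = 10 := by omega
      subst this; norm_num at hr
    · left; omega
    · have : r = 28 := by omega
      subst this; norm_num at hr
    · right; omega
    · have : r = 46 := by omega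
      subst this; norm_num at hr
    · have : r = 55 := by omega
      subst this; norm_num at hr
    · have : r = 64 := by omega
      subst this; norm_num at hr
  have hbig := NN_big hi.c4 hq
  obtain ⟨r, hr, hrN⟩ := Nat.exists_prime_and_dvd (n := NN (p ^ k) (t2 s)) (by omega)
  obtain ⟨l, hl⟩ := hrN
  by_cases hl1 : l = 1
  · subst hl1
    have := hpr r hr (by rw [hl]; exact dvd_mul_right _ _)
    omega
  obtain ⟨s', hs, hsl⟩ := Nat.exists_prime_and_dvd hl1
  have hd : r * s' ∣ Nat.card S := (mul_dvd_mul_left r hsl).trans (hl ▸ hdvd)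
  rcases hpr r hr (by rw [hl]; exact dvd_mul_right _ _) with rfl | rfl <;>
    rcases hpr s' hs (by rw [hl]; exact hsl.mul_left _) with rfl | rfl
  · exact h19 hd
  · exact h703 hd
  · exact h703 (by rwa [mul_comm] at hd)
  · exact h37 hd

/-- the same, by name -/
theorem row_spor_name {g : Grp} (R : RowS s p k S) (hg : IsNamed g S) (h : ordN g ∈ H437.sporList) : False :=
  row_sporList R (by rw [hg.ord]; exact h)

/-! ### Exceptional groups of small rank -/

theorem no_cover {v c : ℕ} (R : RowS s p k S) (hv : IsPrimePow v) (hc : Cover S v c) (h5 : c ≤ 5) : False := by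
  classical
  obtain ⟨ρ, ⟨hpr, hdv, hna⟩, h3, h7⟩ := coq R
  obtain ⟨w, f, hw, hf, rfl⟩ := (isPrimePow_nat_iff v).1 hv
  have key : (ρ.erase w).card ≤ c := by
    refine hc.card_le _ (fun r hr => ?_) fun r hr s hs hrs => ?_
    · obtain ⟨hrp, hrC⟩ := Finset.mem_erase.1 hr
      refine ⟨hpr r hrC, h3 r hrC, fun hd => hrp ?_, hdv r hrC⟩
      exact (Nat.prime_dvd_prime_iff_eq (hpr r hrC) hw).1 ((hpr r hrC).dvd_of_dvd_pow hd)
    · exact hna r (Finset.mem_of_mem_erase hr) s (Finset.mem_of_mem_erase hs) hrs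
  have h2 := Finset.pred_card_le_card_erase (s := ρ) (a := w)
  omega

variable {v : ℕ}

theorem row_g2 (R : RowS s p k S) (hg : IsNamed (.g2 v) S) : False :=
  no_cover R (hg.cond : 3 ≤ v ∧ IsPrimePow v).2 (cov_g2 hg) (by norm_num)

theorem row_f4 (R : RowS s p k S) (hg : IsNamed (.f4 v) S) : False :=
  no_cover R (hg.cond : IsPrimePow v) (cov_f4 hg) (by norm_num)

theorem row_e6 (R : RowS s p k S) (hg : IsNamed (.e6 v) S) : False :=
  no_cover R (hg.cond : IsPrimePow v) (cov_e6 hg) (by norm_num)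

theorem row_te6 (R : RowS s p k S) (hg : IsNamed (.te6 v) S) : False :=
  no_cover R (hg.cond : IsPrimePow v) (cov_te6 hg) (by norm_num)

theorem row_td4 (R : RowS s p k S) (hg : IsNamed (.td4 v) S) : False :=
  no_cover R (hg.cond : IsPrimePow v) (cov_td4 hg) (by norm_num)

theorem row_sz (R : RowS s p k S) (hg : IsNamed (.sz v) S) : False :=
  no_cover R (Nat.prime_two.isPrimePow.pow (by norm_num)) (cov_sz hg) (by norm_num)

theorem row_ree (R : RowS s p k S) (hg : IsNamed (.ree v) S) : False :=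
  no_cover R (Nat.prime_three.isPrimePow.pow (by norm_num)) (cov_ree hg) (by norm_num)

theorem row_tf4 (R : RowS s p k S) (hg : IsNamed (.tf4 v) S) : False :=
  no_cover R (Nat.prime_two.isPrimePow.pow (by norm_num)) (cov_tf4 hg) (by norm_num)

theorem row_tits (R : RowS s p k S) (hg : IsNamed .tits S) : False := row_spor_name R hg (by decide +kernel)

theorem row_sporadic {g : Grp} (R : RowS s p k S) (hg : IsNamed g S) (h : g ∈ H196.E7.sporNames) : False :=
  row_spor_name R hg (H196.E7.ord_mem g h)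

end Cfsg.Agent.R2.Spec.X1.E7
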